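import Groth.Agent.Etcore.LocMap
import Groth.Agent.Etcore.StalkSec
import Groth.Agent.Sga4B.DualWBasic
import Groth.Agent.Sga4B.RpushSec930

/-!
# Restriction of classes in `Ext^n(ℤ[V], F)` along morphisms `X ⟶ V`

`R f V σ h F n : Ext (Zf V) F n →+ Ext ℤ_X (f^* F) n` for `σ : X ⟶ V.left`, `σ ≫ V.hom = f`.
-/

set_option autoImplicit false
universe u

open CategoryTheory CategoryTheory.Limits AlgebraicGeometry Opposite CategoryTheory.Abelian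

namespace Groth.Agent.Etdl.H142.ClassRes

open Groth.Agent.EtpbcA Groth.Agent.EtpbcA.CdDiesEt Groth.Agent.CurvesA
open Groth.Agent.Etcore.LocSec Groth.Agent.Etcore.Loc Groth.Agent.Etcore.ZU
open Groth.Agent.Sga4B.DualShape

variable {X Y Z : Scheme.{u}}

theorem isGen_univ (V : X.Etale) : IsGen (SiteZU.univ.{u + 1} (J := X.smallEtaleTopology) V) :=
  fun F => (SiteZU.evEquiv.{u + 1} V F).bijective

theorem isGen_univJ (V : X.Etale) : IsGen (P := ZS V) (Jshriek.univ V ℤ 1) := fun F =>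
  ⟨fun _ _ h => Sga4B.DualWBasic.hom_ext_int V h, fun s =>
    ⟨Jshriek.lift V (G := F) (zmultiplesHom _ s),
      (Jshriek.lift_univ V (G := F) (zmultiplesHom _ s) 1).trans (one_zsmul _)⟩⟩

/-- Restriction of a class on `V` along `σ : X ⟶ V.left`. -/
noncomputable def R (f : X ⟶ Y) (V : Y.Etale) (σ : X ⟶ V.left) (h : σ ≫ V.hom = f)
    (F : EtCoh.Ab Y) (n : ℕ) :
    Ext.{u + 1} ((Zf Y).obj V) F n →+ Ext.{u + 1} (EtCoh.const X ℤ) ((EtCoh.pull f).obj F) n :=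
  extPull (isGen_one X) f (mkSec f V σ h) (SiteZU.univ.{u + 1} V) F n

theorem app_map_univ {V V' : Y.Etale} (g : V' ⟶ V) :
    app ((Zf Y).map g) V' (SiteZU.univ.{u + 1} V') = res ((Zf Y).obj V) g (SiteZU.univ.{u + 1} V) := by
  have h := SiteZU.ev_map_comp.{u + 1} g (F := (Zf Y).obj V) (𝟙 _)
  rw [Category.comp_id] at h
  exact h

theorem R_res (f : X ⟶ Y) {V V' : Y.Etale} (g : V' ⟶ V) (σ' : X ⟶ V'.left) (h' : σ' ≫ V'.hom = f)
    (h : (σ' ≫ g.left) ≫ V.hom = f) (F : EtCoh.Ab Y) (n : ℕ) (x : Ext.{u + 1} ((Zf Y).obj V) F n) :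
    R f V' σ' h' F n ((Ext.mk₀ ((Zf Y).map g)).comp x (zero_add n)) =
      R f V (σ' ≫ g.left) h F n x := by
  have e := extPull_precomp (isGen_one X) f (isGen_one X) (mkSec f V (σ' ≫ g.left) h)
    (mkSec f V' σ' h') (SiteZU.univ.{u + 1} V) (SiteZU.univ.{u + 1} V') g ((Zf Y).map g)
    (app_map_univ g) (𝟙 _) (𝟙 _) (by rw [app_id, res_id])
    (by
      rw [Category.id_comp]
      exact mkSec_bc f σ' h' g h) F n x
  rw [R, R, e, Ext.mk₀_id_comp]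

/-- Functoriality in `X`. -/
theorem HPV_R (g : X ⟶ Y) (f : Y ⟶ Z) {f₀ : X ⟶ Z} (w : g ≫ f = f₀) (V : Z.Etale)
    (σ : Y ⟶ V.left) (h : σ ≫ V.hom = f) (h' : (g ≫ σ) ≫ V.hom = f₀) (F : EtCoh.Ab Z) (n : ℕ)
    (x : Ext.{u + 1} ((Zf Z).obj V) F n) :
    HPV g f w F n (R f V σ h F n x) = R f₀ V (g ≫ σ) h' F n x := by
  rw [R, R, HPV_extPull, bc_comp_eq g f w V σ h h']

theorem R_congr (f : X ⟶ Y) (V : Y.Etale) {σ σ' : X ⟶ V.left} (h : σ ≫ V.hom = f) (e : σ = σ')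
    (F : EtCoh.Ab Y) (n : ℕ) (x : Ext.{u + 1} ((Zf Y).obj V) F n) :
    R f V σ h F n x = R f V σ' (e ▸ h) F n x := by
  subst e
  rfl

theorem R_comp_mk₀ (f : X ⟶ Y) (V : Y.Etale) (σ : X ⟶ V.left) (h : σ ≫ V.hom = f)
    {F G : EtCoh.Ab Y} (φ : F ⟶ G) (n : ℕ) (x : Ext.{u + 1} ((Zf Y).obj V) F n) :
    R f V σ h G n (x.comp (Ext.mk₀ φ) (add_zero n)) =
      (R f V σ h F n x).comp (Ext.mk₀ ((EtCoh.pull f).map φ)) (add_zero n) := by
  rw [R, R, extPull_comp, Ext.mapExactFunctor_mk₀]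

theorem R_eq (f : X ⟶ Y) (V : Y.Etale) (σ : X ⟶ V.left) (h : σ ≫ V.hom = f)
    (F : EtCoh.Ab Y) (n : ℕ) (x : Ext.{u + 1} ((Zf Y).obj V) F n) :
    R f V σ h F n x = (Ext.mk₀ (cmap (isGen_one X) f (mkSec f V σ h)
      (SiteZU.univ.{u + 1} V))).comp (x.mapExactFunctor (EtCoh.pull f)) (zero_add n) := rfl

/-! ### Geometric points and sieves -/

section Geom

open Groth.Agent.Etcore.StalkSec

variable {S : Scheme.{u}} {Ω : Type u} [Field Ω] [IsSepClosed Ω]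
  (ξ : Spec (CommRingCat.of Ω) ⟶ S)

theorem exists_lift_mor {V W : S.Etale} (g : W ⟶ V) (l : Spec (CommRingCat.of Ω) ⟶ V.left)
    (hl : l ≫ V.hom = ξ) (w : W.left) (hw : g.left w = l default) :
    ∃ l' : Spec (CommRingCat.of Ω) ⟶ W.left, l' ≫ W.hom = ξ ∧ l' ≫ g.left = l := by
  obtain ⟨y, hy, -⟩ := exists_lift ξ g (mkLift ξ l hl) w hw
  exact ⟨hom ξ y, hom_comp ξ y, congrArg (hom ξ) hy⟩

theorem exists_lift_sieve {V : S.Etale} (Sv : Sieve V) (hS : Sv ∈ S.smallEtaleTopology V)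
    (l : Spec (CommRingCat.of Ω) ⟶ V.left) (hl : l ≫ V.hom = ξ) :
    ∃ (W : S.Etale) (g : W ⟶ V) (_ : Sv g) (l' : Spec (CommRingCat.of Ω) ⟶ W.left),
      l' ≫ W.hom = ξ ∧ l' ≫ g.left = l := by
  obtain ⟨W, g, hg, w, hw⟩ := (Germ.mem_iff Sv).1 hS (l default)
  obtain ⟨l', h1, h2⟩ := exists_lift_mor ξ g l hl w hw
  exact ⟨W, g, hg, l', h1, h2⟩

end Geom

end Groth.Agent.Etdl.H142.ClassRes
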