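import Groth.Agent.Etdl.H142.TopLeray
import Groth.Agent.Sga4h.PushDer

/-!
# The Leray isomorphism in the top degree, étale direct images
-/

set_option autoImplicit false
universe u

open CategoryTheory CategoryTheory.Limits AlgebraicGeometry Opposite

namespace Groth.Agent.Etdl.H142.TopLerayEt

open Groth.Agent.Sga4h

variable {X Y Z : Scheme.{u}}

/-- `R^{a+b}(f ≫ g)_* F ≅ R^a g_* (R^b f_* F)` if `R^j f_* F = 0` for `j > b`,
`R^i g_* R^j f_* F = 0` for `i > a`, and `a ≥ 1`. -/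
theorem nonempty_Rpush_top (f : X ⟶ Y) (g : Y ⟶ Z) (F : EtCoh.Ab X) (a b : ℕ)
    (hb : ∀ j, b < j → IsZero ((EtCoh.Rpush f j).obj F))
    (ha : ∀ i, a + 1 < i → ∀ j, IsZero ((EtCoh.Rpush g i).obj ((EtCoh.Rpush f j).obj F))) :
    Nonempty ((EtCoh.Rpush (f ≫ g) (a + 1 + b)).obj F ≅
      (EtCoh.Rpush g (a + 1)).obj ((EtCoh.Rpush f b).obj F)) := by
  obtain ⟨e⟩ := TopLeray.nonempty_top (EtCoh.push f) (EtCoh.push g) (PushDer.push_injective f)
    a b F hb ha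
  exact ⟨(LerayAcyc.rightDerivedCongr (EtCoh.pushComp g f) (a + 1 + b)).symm.app F ≪≫ e⟩

/-- The case where `g_*` is exact. -/
theorem nonempty_Rpush_exact (f : X ⟶ Y) (g : Y ⟶ Z) [PreservesFiniteColimits (EtCoh.push g)]
    (F : EtCoh.Ab X) (b : ℕ) :
    Nonempty ((EtCoh.Rpush (f ≫ g) b).obj F ≅
      (EtCoh.Rpush g 0).obj ((EtCoh.Rpush f b).obj F)) :=
  ⟨PushDer.rpushExactIso f g F b ≪≫ (PushDer.rpushZeroIso g).symm.app _⟩

end Groth.Agent.Etdl.H142.TopLerayEt
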