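import Groth.Agent.Etdl.H142.OffZero
import Groth.Agent.Etdl.H142.TopLerayEt
import Groth.Agent.Sga5.H848.TateTwist

/-!
# The top direct image of `ℤ/n(d)` along `(ℙ¹_S)^d ⟶ S`
-/

set_option autoImplicit false
universe u

open CategoryTheory CategoryTheory.Limits AlgebraicGeometry Opposite

namespace Groth.Agent.Etdl.H142.KTate

open Groth.Agent.Sga4B Groth.Agent.Sga4B.IterP1 VanAbove OffZero Groth.Agent.Sga5.H848

variable {n : ℕ}

/-- `R² p_* ℤ/n(t + 1) ≅ ℤ/n(t)` for `p : ℙ¹_Y ⟶ Y`. -/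
theorem nonempty_P1 (Y : Scheme.{u}) (hn : IsUnit (n : Γ(Y, ⊤))) (t : ℕ) :
    Nonempty ((EtCoh.Rpush (CohB1.ProjSpaceOver.toBase 1 Y) 2).obj
      (EtDual.tate (CohB1.ProjSpaceOver 1 Y) n (t + 1)) ≅ EtDual.tate Y n t) := by
  obtain ⟨e1⟩ := TateTwist.nonempty_rpush_tate_succ (CohB1.ProjSpaceOver.toBase 1 Y) hn 2 t
  have : SmoothOfRelativeDimension 1 (CohB1.ProjSpaceOver.toBase 1 Y) := inferInstance
  obtain ⟨e2⟩ := S3119.result (CohB1.ProjSpaceOver.toBase 1 Y)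
    (fun Ω _ _ s => inferInstance) n hn
  obtain ⟨e3⟩ := Sga4h.TensorConst.nonempty_iso_tensor_const _ n
    (TateTwist.killedBy_tate (X := Y) (n := n) t)
  exact ⟨e1 ≪≫ Sga4h.EtaleRes2.tensorAbIso (Iso.refl _) e2 ≪≫ e3.symm⟩

/-- `R^i π_* F = 0` for `i > 2 d` and `F` killed by `n`. -/
theorem isZero_Rpush_toBase (hn0 : 0 < n) (S : Scheme.{u}) (d : ℕ) (F : EtCoh.Ab (P S d))
    (hF : EtCoh.KilledBy n F) (i : ℕ) (hi : 2 * d < i) :
    IsZero ((EtCoh.Rpush (toBase S d) i).obj F) := by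
  induction d generalizing i with
  | zero => exact EtpbcA.ClosedPushExact.isZero_Rpush (𝟙 S) F i hi
  | succ d ih =>
    let p : CohB1.ProjSpaceOver 1 (P S d) ⟶ P S d := CohB1.ProjSpaceOver.toBase 1 (P S d)
    have hz : ∀ a b : ℕ, a + b = i → IsZero ((EtCoh.Rpush (toBase S d) a).obj
        ((EtCoh.Rpush p b).obj F)) := by
      intro a b hab
      by_cases ha : 2 * d < a
      · exact ih _ (ShriekTools.killedBy_map (EtCoh.Rpush p b) n _ hF) a ha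
      · have h0 : IsZero ((EtCoh.Rpush p b).obj F) :=
          isZero_Rpush_P1 _ F (JFComp.isTorsion_of_killedBy hn0 hF) b (by omega)
        exact (EtCoh.Rpush (toBase S d) a).map_isZero h0
    refine EtpbcA.CdDiesEt.isZero_Rpush_comp p (toBase S d) F i ?_ ?_
    · exact (hz i 0 (add_zero i)).of_iso ((EtCoh.Rpush (toBase S d) i).mapIso
        ((EtCoh.push p).rightDerivedZeroIsoSelf.symm.app _))
    · intro a b hab
      exact hz a (b + 1) hab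

/-- `R⁰ id_* ℤ/n ≅ ℤ/n` -/
theorem nonempty_id (S : Scheme.{u}) (n : ℕ) :
    Nonempty ((EtCoh.Rpush (𝟙 S) 0).obj (EtCoh.const S (ZMod n)) ≅ EtCoh.const S (ZMod n)) := by
  have h := isIso_unit_of_isIso (𝟙 S) (EtCoh.const S (ZMod n))
  exact ⟨(Sga4h.PushDer.rpushZeroIso (𝟙 S)).app _ ≪≫
    (EtCoh.push (𝟙 S)).mapIso (EtCore.pullConst (𝟙 S) (ZMod n)).symm ≪≫
      (asIso ((EtCoh.pullPushAdj (𝟙 S)).unit.app (EtCoh.const S (ZMod n)))).symm⟩

/-- **`R^{2d} π_* ℤ/n(d) ≅ ℤ/n`** for `π : (ℙ¹_S)^d ⟶ S`. -/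
theorem nonempty_top (hn0 : 0 < n) (S : Scheme.{u}) (hn : IsUnit (n : Γ(S, ⊤))) (d : ℕ) :
    Nonempty ((EtCoh.Rpush (toBase S d) (2 * d)).obj (EtDual.tate (P S d) n d) ≅
      EtCoh.const S (ZMod n)) := by
  induction d with
  | zero => exact nonempty_id S n
  | succ d ih =>
    obtain ⟨e⟩ := ih
    obtain ⟨e1⟩ := nonempty_P1 (P S d) (isUnit_of_hom (toBase S d) hn) d
    let p : CohB1.ProjSpaceOver 1 (P S d) ⟶ P S d := CohB1.ProjSpaceOver.toBase 1 (P S d)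
    have hk : EtCoh.KilledBy n (EtDual.tate (CohB1.ProjSpaceOver 1 (P S d)) n (d + 1)) :=
      TateTwist.killedBy_tate _
    cases d with
    | zero =>
      have : PreservesFiniteColimits (EtCoh.push (toBase S 0)) :=
        EtpbcA.ClosedPushExact.push_preservesFiniteColimits (𝟙 S)
      obtain ⟨e2⟩ := TopLerayEt.nonempty_Rpush_exact p (toBase S 0)
        (EtDual.tate (CohB1.ProjSpaceOver 1 (P S 0)) n (0 + 1)) 2
      exact ⟨e2 ≪≫ (EtCoh.Rpush (toBase S 0) 0).mapIso e1 ≪≫ e⟩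
    | succ d =>
      obtain ⟨e2⟩ := TopLerayEt.nonempty_Rpush_top p (toBase S (d + 1))
        (EtDual.tate (CohB1.ProjSpaceOver 1 (P S (d + 1))) n (d + 1 + 1)) (2 * d + 1) 2
        (fun j hj => isZero_Rpush_P1 _ _ (JFComp.isTorsion_of_killedBy hn0 hk) j hj)
        (fun i hi j => isZero_Rpush_toBase hn0 S (d + 1) _
          (ShriekTools.killedBy_map (EtCoh.Rpush p j) n _ hk) i (by omega))
      exact ⟨e2 ≪≫ (EtCoh.Rpush (toBase S (d + 1)) (2 * d + 1 + 1)).mapIso e1 ≪≫ e⟩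

/-- The same with coefficients `π^* ℤ/n(d)`. -/
theorem nonempty_top' (hn0 : 0 < n) (S : Scheme.{u}) (hn : IsUnit (n : Γ(S, ⊤))) (d : ℕ) :
    Nonempty ((EtCoh.Rpush (toBase S d) (2 * d)).obj
      ((EtCoh.pull (toBase S d)).obj (EtDual.tate S n d)) ≅ EtCoh.const S (ZMod n)) := by
  obtain ⟨e⟩ := nonempty_top hn0 S hn d
  obtain ⟨-, ⟨e1⟩⟩ := TateTwist.nonempty_pull_tate (toBase S d) hn d
  exact ⟨(EtCoh.Rpush (toBase S d) (2 * d)).mapIso e1 ≪≫ e⟩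

end Groth.Agent.Etdl.H142.KTate
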