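import Groth.Agent.Etdl.H142.LiftSupp
import Groth.Agent.Etbase.StalkPull

/-!
# Restriction of classes with support

`cok w A = A / w_! w^* A` for an open immersion `w : O ⟶ Q`. For `r : Q' ⟶ Q` and `w' : O' ⟶ Q'` with
`r (O') ⊆ O`, a map `A' ⟶ r^* A` induces `cok w' A' ⟶ r^* (cok w A)`.
-/

set_option autoImplicit false
universe u

open CategoryTheory CategoryTheory.Limits AlgebraicGeometry Opposite CategoryTheory.Abelian

namespace Groth.Agent.Etdl.H142.ResCok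

open LiftSupp

variable {O Q : Scheme.{u}} (w : O ⟶ Q) [IsOpenImmersion w]

/-- The stalks of `cok w A` vanish on `O`. -/
theorem isZero_stalk_cok (A : EtCoh.Ab Q) {Ω : Type u} [Field Ω] [IsSepClosed Ω]
    (ξ : Spec (CommRingCat.of Ω) ⟶ Q) (h : ξ default ∈ Set.range w) :
    IsZero ((EtCoh.stalk ξ).obj (cok w A)) := by
  have h1 := Etcore.MVShriek.isIso_stalk_c w A ξ h
  have h2 : Epi ((EtCoh.stalk ξ).map (cokπ w A)) := inferInstance
  have h3 : (EtCoh.stalk ξ).map (Etcore.MVShriek.c w A) ≫ (EtCoh.stalk ξ).map (cokπ w A) = 0 := by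
    rw [← Functor.map_comp, cokernel.condition, Functor.map_zero]
  have h4 : (EtCoh.stalk ξ).map (cokπ w A) = 0 := by
    rw [← cancel_epi ((EtCoh.stalk ξ).map (Etcore.MVShriek.c w A)), h3, comp_zero]
  exact IsZero.of_epi_eq_zero _ h4

theorem isZero_pull_cok {Q' : Scheme.{u}} (r : Q' ⟶ Q) (h : ∀ z, r z ∈ Set.range w)
    (A : EtCoh.Ab Q) : IsZero ((EtCoh.pull r).obj (cok w A)) := by
  rw [Etcore.Stalks.isZero_iff_stalks]
  intro Ω _ _ ξ
  have e : (EtCoh.stalk ξ).obj ((EtCoh.pull r).obj (cok w A)) ≅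
      (EtCoh.stalk (ξ ≫ r)).obj (cok w A) := ((Etbase.StalkPull.stalkPullIso r ξ).symm.app _)
  refine (isZero_stalk_cok w A (ξ ≫ r) ?_).of_iso e
  rw [Scheme.Hom.comp_apply]
  exact h _

variable {O' Q' : Scheme.{u}} (w' : O' ⟶ Q') [IsOpenImmersion w']

theorem c_comp_eq_zero {A' Y : EtCoh.Ab Q'} (ψ : A' ⟶ Y) (hY : IsZero ((EtCoh.pull w').obj Y)) :
    Etcore.MVShriek.c w' A' ≫ ψ = 0 := by
  have h1 : (EtShriek.extZero w').map ((EtCoh.pull w').map ψ) ≫ Etcore.MVShriek.c w' Y =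
      Etcore.MVShriek.c w' A' ≫ ψ := (Etcore.MVShriek.adj w').counit.naturality ψ
  rw [← h1, hY.eq_of_tgt ((EtCoh.pull w').map ψ) 0, Functor.map_zero, zero_comp]

variable (r : Q' ⟶ Q) (h : ∀ z : O', r (w' z) ∈ Set.range w)

include h in
omit [IsOpenImmersion w'] in
theorem isZero_pull_pull_cok (A : EtCoh.Ab Q) :
    IsZero ((EtCoh.pull w').obj ((EtCoh.pull r).obj (cok w A))) := by
  have h1 : IsZero ((EtCoh.pull (w' ≫ r)).obj (cok w A)) :=
    isZero_pull_cok w (w' ≫ r) (fun z => by rw [Scheme.Hom.comp_apply]; exact h z) A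
  exact h1.of_iso ((EtCore.pullComp w' r).symm.app (cok w A))

variable {A : EtCoh.Ab Q} {A' : EtCoh.Ab Q'}

/-- The map `cok w' A' ⟶ r^* (cok w A)` attached to `φ : A' ⟶ r^* A`. -/
noncomputable def resCok (φ : A' ⟶ (EtCoh.pull r).obj A) :
    cok w' A' ⟶ (EtCoh.pull r).obj (cok w A) :=
  cokernel.desc _ (φ ≫ (EtCoh.pull r).map (cokπ w A))
    (c_comp_eq_zero w' _ (isZero_pull_pull_cok w w' r h A))

theorem cokπ_resCok (φ : A' ⟶ (EtCoh.pull r).obj A) :
    cokπ w' A' ≫ resCok w w' r h φ = φ ≫ (EtCoh.pull r).map (cokπ w A) :=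
  cokernel.π_desc _ _ _

theorem resCok_unique (φ : A' ⟶ (EtCoh.pull r).obj A)
    (ψ : cok w' A' ⟶ (EtCoh.pull r).obj (cok w A))
    (hψ : cokπ w' A' ≫ ψ = φ ≫ (EtCoh.pull r).map (cokπ w A)) : ψ = resCok w w' r h φ := by
  rw [← cancel_epi (cokπ w' A'), hψ, cokπ_resCok]

/-- The restriction map on `Ext` with support. -/
noncomputable def resExt (φ : A' ⟶ (EtCoh.pull r).obj A) {F : EtCoh.Ab Q} {N : ℕ}
    (y : Ext.{u + 1} (cok w A) F N) : Ext.{u + 1} (cok w' A') ((EtCoh.pull r).obj F) N :=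
  (Ext.mk₀ (resCok w w' r h φ)).comp (y.mapExactFunctor (EtCoh.pull r)) (zero_add N)

/-- Restriction and forgetting the support. -/
theorem cokπ_resExt (φ : A' ⟶ (EtCoh.pull r).obj A) {F : EtCoh.Ab Q} {N : ℕ}
    (y : Ext.{u + 1} (cok w A) F N) :
    (Ext.mk₀ (cokπ w' A')).comp (resExt w w' r h φ y) (zero_add N) =
      (Ext.mk₀ φ).comp (((Ext.mk₀ (cokπ w A)).comp y (zero_add N)).mapExactFunctor (EtCoh.pull r))
        (zero_add N) := by
  unfold resExt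
  rw [← Ext.comp_assoc_of_second_deg_zero, Ext.mk₀_comp_mk₀, cokπ_resCok,
    Ext.mapExactFunctor_comp, Ext.mapExactFunctor_mk₀, ← Ext.comp_assoc_of_second_deg_zero,
    Ext.mk₀_comp_mk₀]

end Groth.Agent.Etdl.H142.ResCok
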