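import Groth.Agent.Etdl.H142.ClassRes
import Groth.Agent.Etbc.H207.PtEval

/-!
# Sections of `R^n f_* F` and classes on the geometric fibres

`f : X ⟶ Y`, `ξ` a geometric point of `Y`, `i : X₀ ⟶ X` the fibre. A class `x` on `U ×_Y X` has a
restriction `rf x` to the fibre. `Surj`, `Inj`: proper base change, elementwise.
* `rf_eq_of_sec_eq`: `rf x` only depends on the germ at `ξ` of the section attached to `x`;
* `exists_class`: the class on the fibre attached to a global section;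
* `basis`: if `R^n f_* F ≅ ℤ/n`, the class attached to `1` is a basis.
-/

set_option autoImplicit false
universe u

open CategoryTheory CategoryTheory.Limits AlgebraicGeometry Opposite CategoryTheory.Abelian

namespace Groth.Agent.Etdl.H142.SecFib

open Groth.Agent.EtpbcA Groth.Agent.EtpbcA.CdDiesEt Groth.Agent.CurvesA
open Groth.Agent.Etcore.LocSec Groth.Agent.Etcore.Loc Groth.Agent.Etcore.ZU
open Groth.Agent.Sga4B.DualShape Groth.Agent.Sga4B ClassRes

variable {X Y X₀ : Scheme.{u}} (f : X ⟶ Y) {Ω : Type u} [Field Ω]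
  {ξ : Spec (CommRingCat.of Ω) ⟶ Y} {a : X₀ ⟶ Spec (CommRingCat.of Ω)} {i : X₀ ⟶ X}
  (w : i ≫ f = a ≫ ξ)

section Inc

/-- The inclusion of the fibre in `U ×_Y X`. -/
noncomputable def inc {U : Y.Etale} (l : Spec (CommRingCat.of Ω) ⟶ U.left) (hl : l ≫ U.hom = ξ) :
    X₀ ⟶ ((EtCoh.bc f).obj U).left :=
  pullback.lift (a ≫ l) i (by rw [Category.assoc, hl, w])

set_option backward.isDefEq.respectTransparency.types false in
theorem inc_fst {U : Y.Etale} (l : Spec (CommRingCat.of Ω) ⟶ U.left) (hl : l ≫ U.hom = ξ) :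
    inc f w l hl ≫ (pullback.fst U.hom f : ((EtCoh.bc f).obj U).left ⟶ U.left) = a ≫ l :=
  pullback.lift_fst _ _ _

set_option backward.isDefEq.respectTransparency.types false in
theorem inc_hom {U : Y.Etale} (l : Spec (CommRingCat.of Ω) ⟶ U.left) (hl : l ≫ U.hom = ξ) :
    inc f w l hl ≫ ((EtCoh.bc f).obj U).hom = i :=
  pullback.lift_snd _ _ _

set_option backward.isDefEq.respectTransparency.types false in
theorem inc_map {U V : Y.Etale} (g : V ⟶ U) (l' : Spec (CommRingCat.of Ω) ⟶ V.left)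
    (hl' : l' ≫ V.hom = ξ) (l : Spec (CommRingCat.of Ω) ⟶ U.left) (hl : l ≫ U.hom = ξ)
    (e : l' ≫ g.left = l) :
    inc f w l' hl' ≫ ((EtCoh.bc f).map g).left = inc f w l hl := by
  have h1 : ((EtCoh.bc f).map g).left ≫ pullback.fst U.hom f = pullback.fst V.hom f ≫ g.left :=
    pullback.lift_fst _ _ _
  have h2 : ((EtCoh.bc f).map g).left ≫ pullback.snd U.hom f = pullback.snd V.hom f :=
    pullback.lift_snd _ _ _
  apply pullback.hom_ext
  · refine (Category.assoc _ _ _).trans ((congrArg (inc f w l' hl' ≫ ·) h1).trans ?_)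
    refine (Category.assoc _ _ _).symm.trans ((congrArg (· ≫ g.left) (inc_fst f w l' hl')).trans ?_)
    refine (Category.assoc _ _ _).trans ((congrArg (a ≫ ·) e).trans ?_)
    exact (inc_fst f w l hl).symm
  · refine (Category.assoc _ _ _).trans ((congrArg (inc f w l' hl' ≫ ·) h2).trans ?_)
    exact (inc_hom f w l' hl').trans (inc_hom f w l hl).symm

end Inc

/-- The restriction to the fibre. -/
noncomputable def rf {U : Y.Etale} (l : Spec (CommRingCat.of Ω) ⟶ U.left) (hl : l ≫ U.hom = ξ)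
    (F : EtCoh.Ab X) (n : ℕ) : Ext.{u + 1} ((Zf X).obj ((EtCoh.bc f).obj U)) F n →+
      Ext.{u + 1} (EtCoh.const X₀ ℤ) ((EtCoh.pull i).obj F) n :=
  R i ((EtCoh.bc f).obj U) (inc f w l hl) (inc_hom f w l hl) F n

theorem rf_res {U V : Y.Etale} (g : V ⟶ U) (l' : Spec (CommRingCat.of Ω) ⟶ V.left)
    (hl' : l' ≫ V.hom = ξ) (l : Spec (CommRingCat.of Ω) ⟶ U.left) (hl : l ≫ U.hom = ξ)
    (e : l' ≫ g.left = l) (F : EtCoh.Ab X) (n : ℕ)
    (x : Ext.{u + 1} ((Zf X).obj ((EtCoh.bc f).obj U)) F n) :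
    rf f w l' hl' F n ((Ext.mk₀ ((Zf X).map ((EtCoh.bc f).map g))).comp x (zero_add n)) =
      rf f w l hl F n x := by
  have e1 := inc_map f w g l' hl' l hl e
  have h1 := R_res i ((EtCoh.bc f).map g) (inc f w l' hl') (inc_hom f w l' hl')
    (by rw [e1]; exact inc_hom f w l hl) F n x
  rw [rf, rf, h1]
  exact R_congr _ _ _ e1 _ _ _

section Main

variable {N : ℕ} {F : EtCoh.Ab X}

/-- Every class on the fibre extends. -/
def Surj (F : EtCoh.Ab X) (N : ℕ) : Prop :=
  ∀ e : Ext.{u + 1} (EtCoh.const X₀ ℤ) ((EtCoh.pull i).obj F) N,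
    ∃ (U : Y.Etale) (l : Spec (CommRingCat.of Ω) ⟶ U.left) (hl : l ≫ U.hom = ξ)
      (x : Ext.{u + 1} ((Zf X).obj ((EtCoh.bc f).obj U)) F N), rf f w l hl F N x = e

/-- A class which vanishes on the fibre vanishes on a neighbourhood. -/
def Inj (F : EtCoh.Ab X) (N : ℕ) : Prop :=
  ∀ (U : Y.Etale) (l : Spec (CommRingCat.of Ω) ⟶ U.left) (hl : l ≫ U.hom = ξ)
    (x : Ext.{u + 1} ((Zf X).obj ((EtCoh.bc f).obj U)) F N), rf f w l hl F N x = 0 →
    ∃ (V : Y.Etale) (g : V ⟶ U) (l' : Spec (CommRingCat.of Ω) ⟶ V.left) (_ : l' ≫ V.hom = ξ),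
      l' ≫ g.left = l ∧ (Ext.mk₀ ((Zf X).map ((EtCoh.bc f).map g))).comp x (zero_add N) = 0

variable [IsSepClosed Ω]

open RpushSec930 in
/-- A class whose section vanishes has zero restriction to the fibre. -/
theorem rf_eq_zero_of_sec_eq_zero {U : Y.Etale} (l : Spec (CommRingCat.of Ω) ⟶ U.left)
    (hl : l ≫ U.hom = ξ) (x : Ext.{u + 1} ((Zf X).obj ((EtCoh.bc f).obj U)) F N)
    (hx : RpushSec930.sec f N F U x = 0) : rf f w l hl F N x = 0 := by
  obtain ⟨Sv, hS, h⟩ := RpushSec930.exists_sieve_of_sec_eq_zero f N F x hx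
  obtain ⟨W, g, hg, l', hl', e⟩ := exists_lift_sieve ξ Sv hS l hl
  rw [← rf_res f w g l' hl' l hl e F N x, h W g hg, map_zero]

/-- A class whose section vanishes near `ξ` has zero restriction to the fibre. -/
theorem rf_eq_zero_of_sec_res_eq_zero {U : Y.Etale} (l : Spec (CommRingCat.of Ω) ⟶ U.left)
    (hl : l ≫ U.hom = ξ) (x : Ext.{u + 1} ((Zf X).obj ((EtCoh.bc f).obj U)) F N)
    {V : Y.Etale} (g : V ⟶ U) (l' : Spec (CommRingCat.of Ω) ⟶ V.left) (hl' : l' ≫ V.hom = ξ)
    (e : l' ≫ g.left = l)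
    (hx : ((EtCoh.Rpush f N).obj F).obj.map g.op (RpushSec930.sec f N F U x) = 0) :
    rf f w l hl F N x = 0 := by
  rw [RpushSec930.sec_res] at hx
  rw [← rf_res f w g l' hl' l hl e F N x]
  exact rf_eq_zero_of_sec_eq_zero f w l' hl' _ hx

omit [IsSepClosed Ω] in
/-- Common neighbourhoods. -/
theorem exists_common (U U' : Y.Etale) (l : Spec (CommRingCat.of Ω) ⟶ U.left) (hl : l ≫ U.hom = ξ)
    (l' : Spec (CommRingCat.of Ω) ⟶ U'.left) (hl' : l' ≫ U'.hom = ξ) :
    ∃ (V : Y.Etale) (g : V ⟶ U) (g' : V ⟶ U') (m : Spec (CommRingCat.of Ω) ⟶ V.left)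
      (_ : m ≫ V.hom = ξ), m ≫ g.left = l ∧ m ≫ g'.left = l' := by
  have h1 : Etale U.hom := U.prop
  have h2 : Etale U'.hom := U'.prop
  have h3 : Etale (pullback.fst U.hom U'.hom ≫ U.hom) := inferInstance
  let W : Y.Etale := MorphismProperty.Over.mk ⊤ (pullback.fst U.hom U'.hom ≫ U.hom) h3
  let m : Spec (CommRingCat.of Ω) ⟶ W.left := pullback.lift l l' (hl.trans hl'.symm)
  let p : W ⟶ U := MorphismProperty.Over.homMk (pullback.fst U.hom U'.hom) rfl
  let q : W ⟶ U' := MorphismProperty.Over.homMk (pullback.snd U.hom U'.hom)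
    pullback.condition.symm
  exact ⟨W, p, q, m,
    ((Category.assoc _ _ _).symm.trans (congrArg (· ≫ U.hom) (pullback.lift_fst _ _ _))).trans hl,
    pullback.lift_fst _ _ _, pullback.lift_snd _ _ _⟩

/-- Two classes whose sections are restrictions of the same section have the same restriction to the
fibre. -/
theorem rf_eq_of_sec_eq (k : EtCoh.sect ((EtCoh.Rpush f N).obj F) (EtCoh.top Y))
    {U : Y.Etale} (l : Spec (CommRingCat.of Ω) ⟶ U.left) (hl : l ≫ U.hom = ξ)
    (x : Ext.{u + 1} ((Zf X).obj ((EtCoh.bc f).obj U)) F N)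
    (hx : RpushSec930.sec f N F U x = res _ (toTop U) k)
    {U' : Y.Etale} (l' : Spec (CommRingCat.of Ω) ⟶ U'.left) (hl' : l' ≫ U'.hom = ξ)
    (x' : Ext.{u + 1} ((Zf X).obj ((EtCoh.bc f).obj U')) F N)
    (hx' : RpushSec930.sec f N F U' x' = res _ (toTop U') k) :
    rf f w l hl F N x = rf f w l' hl' F N x' := by
  obtain ⟨V, g, g', m, hm, e, e'⟩ := exists_common U U' l hl l' hl'
  rw [← rf_res f w g m hm l hl e F N x, ← rf_res f w g' m hm l' hl' e' F N x', ← sub_eq_zero,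
    ← map_sub]
  apply rf_eq_zero_of_sec_eq_zero
  rw [map_sub, ← RpushSec930.sec_res, ← RpushSec930.sec_res, hx, hx', sub_eq_zero]
  change res _ g (res _ (toTop U) k) = res _ g' (res _ (toTop U') k)
  rw [res_res, res_res]
  congr 1
  exact congrArg (fun t => res ((EtCoh.Rpush f N).obj F) t) ((EtCore.topIsTerminal Y).hom_ext _ _)

/-- Local existence of classes with a given section. -/
theorem exists_local (k : EtCoh.sect ((EtCoh.Rpush f N).obj F) (EtCoh.top Y))
    {U : Y.Etale} (l : Spec (CommRingCat.of Ω) ⟶ U.left) (hl : l ≫ U.hom = ξ) :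
    ∃ (V : Y.Etale) (g : V ⟶ U) (l' : Spec (CommRingCat.of Ω) ⟶ V.left) (_ : l' ≫ V.hom = ξ)
      (x : Ext.{u + 1} ((Zf X).obj ((EtCoh.bc f).obj V)) F N), l' ≫ g.left = l ∧
        RpushSec930.sec f N F V x = res _ (toTop V) k := by
  obtain ⟨Sv, hS, h⟩ := RpushSec930.exists_sieve_sec_eq f N F (res _ (toTop U) k)
  obtain ⟨W, g, hg, l', hl', e⟩ := exists_lift_sieve ξ Sv hS l hl
  obtain ⟨x, hx⟩ := h W g hg
  refine ⟨W, g, l', hl', x, e, hx.trans ?_⟩
  change res _ g (res _ (toTop U) k) = res _ (toTop W) k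
  rw [res_res]
  exact congrArg (fun t => res ((EtCoh.Rpush f N).obj F) t k) ((EtCore.topIsTerminal Y).hom_ext _ _)

/-- **The class on the fibre attached to a global section.** -/
theorem exists_class (k : EtCoh.sect ((EtCoh.Rpush f N).obj F) (EtCoh.top Y)) :
    ∃ c : Ext.{u + 1} (EtCoh.const X₀ ℤ) ((EtCoh.pull i).obj F) N,
      ∀ (U : Y.Etale) (l : Spec (CommRingCat.of Ω) ⟶ U.left) (hl : l ≫ U.hom = ξ)
        (x : Ext.{u + 1} ((Zf X).obj ((EtCoh.bc f).obj U)) F N),
        RpushSec930.sec f N F U x = res _ (toTop U) k → rf f w l hl F N x = c := by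
  obtain ⟨V, g, l', hl', x, -, hx⟩ := exists_local f (F := F) (N := N) k
    (U := EtCoh.top Y) ξ (Category.comp_id ξ)
  exact ⟨rf f w l' hl' F N x, fun U l hl y hy => rf_eq_of_sec_eq f w k l hl y hy l' hl' x hx⟩

section Const

variable {M : Type} [AddCommGroup M]

/-- Sections of a constant sheaf are locally constant. -/
theorem exists_local_const {U : Y.Etale} (s : EtCoh.sect (EtCoh.const Y M) U)
    (l : Spec (CommRingCat.of Ω) ⟶ U.left) (hl : l ≫ U.hom = ξ) :
    ∃ (m : M) (V : Y.Etale) (g : V ⟶ U) (l' : Spec (CommRingCat.of Ω) ⟶ V.left)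
      (_ : l' ≫ V.hom = ξ), l' ≫ g.left = l ∧
        res _ g s = res _ (toTop V) (Etbc.H207.PtEval.sec Y M (ULift.up m)) := by
  let x := Etcore.StalkSec.mkLift ξ l hl
  let t := (Scheme.pointSmallEtale ξ).fiber.map (toTop U) x
  obtain ⟨⟨m⟩, hm⟩ := (Etbc.H207.PtEval.bijective_germ_sec Y M ξ t).2
    (Etcore.StalkSec.germ ξ (EtCoh.const Y M) U x s)
  have h1 : Etcore.StalkSec.germ ξ (EtCoh.const Y M) U x s =
      Etcore.StalkSec.germ ξ (EtCoh.const Y M) U x
        ((EtCoh.const Y M).obj.map (toTop U).op (Etbc.H207.PtEval.sec Y M (ULift.up m))) := by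
    rw [Etcore.StalkSec.germ_res]
    exact hm.symm
  obtain ⟨V, g, y, hy, h2⟩ := (Etcore.StalkSec.germ_eq_iff ξ _ U x _ _).1 h1
  refine ⟨m, V, g, Etcore.StalkSec.hom ξ y, Etcore.StalkSec.hom_comp ξ y,
    congrArg (Etcore.StalkSec.hom ξ) hy, ?_⟩
  refine Eq.trans h2 ?_
  change res _ g (res _ (toTop U) _) = _
  rw [res_res]
  exact congrArg (fun t => res (EtCoh.const Y M) t _) ((EtCore.topIsTerminal Y).hom_ext _ _)

theorem eq_zero_of_res_eq_zero {V : Y.Etale} (l : Spec (CommRingCat.of Ω) ⟶ V.left)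
    (hl : l ≫ V.hom = ξ) (m : M)
    (h : res _ (toTop V) (Etbc.H207.PtEval.sec Y M (ULift.up m)) = 0) : m = 0 := by
  let x := Etcore.StalkSec.mkLift ξ l hl
  let t := (Scheme.pointSmallEtale ξ).fiber.map (toTop V) x
  have h1 : Etcore.StalkSec.germ ξ (EtCoh.const Y M) _ t
      (Etbc.H207.PtEval.sec Y M (ULift.up m)) = 0 := by
    rw [← Etcore.StalkSec.germ_res]
    exact (congrArg _ h).trans (map_zero _)
  have h2 := (Etbc.H207.PtEval.bijective_germ_sec Y M ξ t).1
    (a₁ := ULift.up m) (a₂ := 0) (h1.trans ((congrArg (Etcore.StalkSec.germ ξ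
      (EtCoh.const Y M) _ t) (map_zero _)).trans (map_zero _)).symm)
  exact congrArg ULift.down h2

end Const

/-- **The class attached to `1` is a basis.** -/
theorem basis {n : ℕ} (e : EtCoh.const Y (ZMod n) ≅ (EtCoh.Rpush f N).obj F)
    (hS : Surj f w F N) (hI : Inj f w F N)
    (c : Ext.{u + 1} (EtCoh.const X₀ ℤ) ((EtCoh.pull i).obj F) N)
    (hc : ∀ (U : Y.Etale) (l : Spec (CommRingCat.of Ω) ⟶ U.left) (hl : l ≫ U.hom = ξ)
        (x : Ext.{u + 1} ((Zf X).obj ((EtCoh.bc f).obj U)) F N),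
        RpushSec930.sec f N F U x = res _ (toTop U) (app e.hom _
          (Etbc.H207.PtEval.sec Y (ZMod n) (ULift.up 1))) → rf f w l hl F N x = c) :
    (∀ y, ∃ m : ℤ, m • c = y) ∧ ∀ m : ℤ, m • c = 0 ↔ (n : ℤ) ∣ m := by
  have hsec : ∀ m : ℤ, Etbc.H207.PtEval.sec Y (ZMod n) (ULift.up (m : ZMod n)) =
      m • Etbc.H207.PtEval.sec Y (ZMod n) (ULift.up 1) := by
    intro m
    rw [← map_zsmul]
    congr 1
    apply ULift.down_injective
    change (m : ZMod n) = m • (1 : ZMod n)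
    simp
  let k := app e.hom _ (Etbc.H207.PtEval.sec Y (ZMod n) (ULift.up 1))
  constructor
  · intro y
    obtain ⟨U, l, hl, x, hx⟩ := hS y
    obtain ⟨m, V, g, l', hl', hg, hm⟩ := exists_local_const
      (app e.inv U (RpushSec930.sec f N F U x)) l hl
    obtain ⟨m, rfl⟩ := ZMod.intCast_surjective m
    obtain ⟨V', g', l'', hl'', x', hg', hx'⟩ := exists_local f (F := F) (N := N) k l' hl'
    refine ⟨m, ?_⟩
    rw [← hc V' l'' hl'' x' hx', ← hx, ← rf_res f w (g' ≫ g) l'' hl'' l hl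
      (by
        change l'' ≫ g'.left ≫ g.left = l
        rw [← Category.assoc, hg', hg]) F N x, ← map_zsmul, ← sub_eq_zero, ← map_sub]
    apply rf_eq_zero_of_sec_eq_zero
    rw [map_sub, map_zsmul, hx', ← RpushSec930.sec_res, sub_eq_zero]
    have h1 : app e.inv V' (res _ (g' ≫ g) (RpushSec930.sec f N F U x)) =
        app e.inv V' (m • res _ (toTop V') k) := by
      rw [← res_app, ← res_res, hm, hsec, map_zsmul, map_zsmul, map_zsmul, res_res, ← res_app,
        ← app_comp, e.hom_inv_id, app_id]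
      congr 1
      exact congrArg (fun t => res (EtCoh.const Y (ZMod n)) t _)
        ((EtCore.topIsTerminal Y).hom_ext _ _)
    have h2 := congrArg (app e.hom V') h1
    rw [← app_comp, ← app_comp, e.inv_hom_id, app_id, app_id] at h2
    exact h2.symm
  · intro m
    obtain ⟨V', g', l'', hl'', x', -, hx'⟩ := exists_local f (F := F) (N := N) k
      (U := EtCoh.top Y) ξ (Category.comp_id ξ)
    rw [← hc V' l'' hl'' x' hx']
    constructor
    · intro hm
      rw [← map_zsmul] at hm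
      obtain ⟨V, g, l', hl', -, h1⟩ := hI V' l'' hl'' (m • x') hm
      have h2 : res _ g (RpushSec930.sec f N F V' (m • x')) = 0 := by
        refine (RpushSec930.sec_res f N F g (m • x')).trans ?_
        rw [h1, map_zero]
      rw [map_zsmul, hx', ← map_zsmul, res_res, ← map_zsmul, ← hsec, res_app] at h2
      have h3 := congrArg (app e.inv V) h2
      rw [← app_comp, e.hom_inv_id, app_id, map_zero] at h3
      have h4 := eq_zero_of_res_eq_zero l' hl' (m : ZMod n)
        ((congrArg (fun t => res (EtCoh.const Y (ZMod n)) t _)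
          ((EtCore.topIsTerminal Y).hom_ext _ _)).trans h3)
      exact (ZMod.intCast_zmod_eq_zero_iff_dvd m n).1 h4
    · intro hm
      rw [← map_zsmul]
      apply rf_eq_zero_of_sec_eq_zero
      rw [map_zsmul, hx', ← map_zsmul, ← map_zsmul, ← hsec,
        (ZMod.intCast_zmod_eq_zero_iff_dvd m n).2 hm]
      have h5 : Etbc.H207.PtEval.sec Y (ZMod n) (ULift.up 0) = 0 := map_zero _
      rw [h5, map_zero, map_zero]

end Main

end Groth.Agent.Etdl.H142.SecFib
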