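import Groth.Agent.Etdl.H142.Via
import Groth.Agent.Etdl.H142.SecFib
import Groth.Agent.Etdl.H142.ResCok

/-!
# The class on the geometric fibres attached to a global section of `R^N f_* f^* M`
-/

set_option autoImplicit false
universe u

open CategoryTheory CategoryTheory.Limits AlgebraicGeometry Opposite CategoryTheory.Abelian

namespace Groth.Agent.Etdl.H142.Kap

open Groth.Agent.EtpbcA Groth.Agent.EtpbcA.CdDiesEt Groth.Agent.CurvesA
open Groth.Agent.Etcore.LocSec Groth.Agent.Etcore.Loc Groth.Agent.Etcore.ZU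
open Groth.Agent.Sga4B.DualShape Groth.Agent.Sga4B Groth.Agent.Sga4h.H917.GSec
open ClassRes SecFib LiftSupp ResCok

section

variable {X Y X₀ : Scheme.{u}} (f : X ⟶ Y) {Ω : Type u} [Field Ω] [IsSepClosed Ω]
  {ξ : Spec (CommRingCat.of Ω) ⟶ Y} {a : X₀ ⟶ Spec (CommRingCat.of Ω)} {i : X₀ ⟶ X}
  (w : i ≫ f = a ≫ ξ)

section

variable {N : ℕ} {F : EtCoh.Ab X} (k : EtCoh.sect ((EtCoh.Rpush f N).obj F) (EtCoh.top Y))

/-- The class on the fibre. -/
noncomputable def κ₀ : Ext.{u + 1} (EtCoh.const X₀ ℤ) ((EtCoh.pull i).obj F) N :=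
  (exists_class f w k).choose

theorem rf_eq_κ₀ (U : Y.Etale) (l : Spec (CommRingCat.of Ω) ⟶ U.left) (hl : l ≫ U.hom = ξ)
    (x : Ext.{u + 1} ((Zf X).obj ((EtCoh.bc f).obj U)) F N)
    (hx : RpushSec930.sec f N F U x = res _ (toTop U) k) : rf f w l hl F N x = κ₀ f w k :=
  (exists_class f w k).choose_spec U l hl x hx

end

variable (M : EtCoh.Ab Y) {N : ℕ}
  (k : EtCoh.sect ((EtCoh.Rpush f N).obj ((EtCoh.pull f).obj M)) (EtCoh.top Y))

/-- The class on the fibre with values in the pull back of `M`. -/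
noncomputable def κM : Ext.{u + 1} (EtCoh.const X₀ ℤ) ((EtCoh.pull (a ≫ ξ)).obj M) N :=
  (κ₀ f w k).comp (Ext.mk₀ (thh i f w M)) (add_zero N)

end

section Loc

variable {X Y X' B : Scheme.{u}} (f : X ⟶ Y) (W : Y.Etale) (b : B ⟶ Y) (l : B ⟶ W.left)
  (hl : l ≫ W.hom = b) (r : X' ⟶ X) (f' : X' ⟶ B) (hr : r ≫ f = f' ≫ b)

/-- `X' ⟶ W ×_Y X` -/
noncomputable def sg : X' ⟶ ((EtCoh.bc f).obj W).left :=
  pullback.lift (f' ≫ l) r (by rw [Category.assoc, hl, hr])

set_option backward.isDefEq.respectTransparency.types false in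
theorem sg_fst : sg f W b l hl r f' hr ≫
    (pullback.fst W.hom f : ((EtCoh.bc f).obj W).left ⟶ W.left) = f' ≫ l :=
  pullback.lift_fst _ _ _

set_option backward.isDefEq.respectTransparency.types false in
theorem sg_hom : sg f W b l hl r f' hr ≫ ((EtCoh.bc f).obj W).hom = r :=
  pullback.lift_snd _ _ _

/-- The generator of `ℤ[W ×_Y X]` on `X'`. -/
noncomputable def φs : EtCoh.const X' ℤ ⟶ (EtCoh.pull r).obj ((Zf X).obj ((EtCoh.bc f).obj W)) :=
  cmap (isGen_one X') r (mkSec r ((EtCoh.bc f).obj W) (sg f W b l hl r f' hr)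
    (sg_hom f W b l hl r f' hr)) (SiteZU.univ.{u + 1} ((EtCoh.bc f).obj W))

theorem R_sg (F : EtCoh.Ab X) (N : ℕ) (x : Ext.{u + 1} ((Zf X).obj ((EtCoh.bc f).obj W)) F N) :
    R r ((EtCoh.bc f).obj W) (sg f W b l hl r f' hr) (sg_hom f W b l hl r f' hr) F N x =
      (Ext.mk₀ (φs f W b l hl r f' hr)).comp (x.mapExactFunctor (EtCoh.pull r)) (zero_add N) := rfl

end Loc

end Groth.Agent.Etdl.H142.Kap
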