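import Groth.Agent.Etdl.H142.Kap

/-!
# Local classes with support and their restriction to the geometric fibres
-/

set_option autoImplicit false
universe u

open CategoryTheory CategoryTheory.Limits AlgebraicGeometry Opposite CategoryTheory.Abelian

namespace Groth.Agent.Etdl.H142.KapLoc

open Groth.Agent.EtpbcA Groth.Agent.EtpbcA.CdDiesEt Groth.Agent.CurvesA
open Groth.Agent.Etcore.LocSec Groth.Agent.Etcore.Loc Groth.Agent.Etcore.ZU
open Groth.Agent.Sga4B.DualShape Groth.Agent.Sga4B Groth.Agent.Sga4h.H917.GSec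
open ClassRes SecFib LiftSupp ResCok Kap

variable {X Y X' B : Scheme.{u}} (f : X ⟶ Y) (W : Y.Etale) (b : B ⟶ Y) (l : B ⟶ W.left)
  (hl : l ≫ W.hom = b) (r : X' ⟶ X) (f' : X' ⟶ B) (hr : r ≫ f = f' ≫ b) (M : EtCoh.Ab Y) (N : ℕ)

/-- The class over `X'` of a class over `W ×_Y X`. -/
noncomputable def cX (x : Ext.{u + 1} ((Zf X).obj ((EtCoh.bc f).obj W)) ((EtCoh.pull f).obj M) N) :
    Ext.{u + 1} (EtCoh.const X' ℤ) ((EtCoh.pull (f' ≫ b)).obj M) N :=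
  (R r ((EtCoh.bc f).obj W) (sg f W b l hl r f' hr) (sg_hom f W b l hl r f' hr)
    ((EtCoh.pull f).obj M) N x).comp (Ext.mk₀ (thh r f hr M)) (add_zero N)

theorem cX_def (x : Ext.{u + 1} ((Zf X).obj ((EtCoh.bc f).obj W)) ((EtCoh.pull f).obj M) N) :
    cX f W b l hl r f' hr M N x = (R r ((EtCoh.bc f).obj W) (sg f W b l hl r f' hr)
      (sg_hom f W b l hl r f' hr) ((EtCoh.pull f).obj M) N x).comp (Ext.mk₀ (thh r f hr M))
        (add_zero N) := rfl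

section Supp

variable {O O' : Scheme.{u}} (w : O ⟶ X) [IsOpenImmersion w] (w' : O' ⟶ X') [IsOpenImmersion w']
  (h : ∀ z : O', r (w' z) ∈ Set.range w)

/-- The class with support over `X'` of a class with support over `W ×_Y X`. -/
noncomputable def cS (y : Ext.{u + 1} (cok w ((Zf X).obj ((EtCoh.bc f).obj W)))
    ((EtCoh.pull f).obj M) N) :
    Ext.{u + 1} (cok w' (EtCoh.const X' ℤ)) ((EtCoh.pull (f' ≫ b)).obj M) N :=
  (resExt w w' r h (φs f W b l hl r f' hr) y).comp (Ext.mk₀ (thh r f hr M)) (add_zero N)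

theorem cokπ_cS (y : Ext.{u + 1} (cok w ((Zf X).obj ((EtCoh.bc f).obj W)))
    ((EtCoh.pull f).obj M) N) :
    (Ext.mk₀ (cokπ w' (EtCoh.const X' ℤ))).comp (cS f W b l hl r f' hr M N w w' h y) (zero_add N) =
      cX f W b l hl r f' hr M N ((Ext.mk₀ (cokπ w _)).comp y (zero_add N)) := by
  rw [cS, cX, ← Ext.comp_assoc_of_third_deg_zero, cokπ_resExt, R_sg]

end Supp

section Fib

variable {X₀ : Scheme.{u}} {Ω : Type u} [Field Ω] [IsSepClosed Ω]
  (ξ : Spec (CommRingCat.of Ω) ⟶ B) {a : X₀ ⟶ Spec (CommRingCat.of Ω)} (i' : X₀ ⟶ X')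
  (i : X₀ ⟶ X) (hi : i' ≫ r = i) (hf : i' ≫ f' = a ≫ ξ) (wi : i ≫ f = a ≫ ξ ≫ b)
  (hξ : (ξ ≫ l) ≫ W.hom = ξ ≫ b)

include hi hf in
omit [IsSepClosed Ω] in
theorem sg_inc : i' ≫ sg f W b l hl r f' hr = inc f wi (ξ ≫ l) hξ := by
  apply pullback.hom_ext
  · refine (Category.assoc _ _ _).trans ((congrArg (i' ≫ ·) (sg_fst f W b l hl r f' hr)).trans ?_)
    refine Eq.trans ?_ (inc_fst f wi (ξ ≫ l) hξ).symm
    rw [← Category.assoc, hf, Category.assoc]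
  · refine (Category.assoc _ _ _).trans ((congrArg (i' ≫ ·) (sg_hom f W b l hl r f' hr)).trans ?_)
    exact hi.trans (inc_hom f wi (ξ ≫ l) hξ).symm

include hf in
omit [IsSepClosed Ω] in
theorem HPV_R_sg (F : EtCoh.Ab X) (x : Ext.{u + 1} ((Zf X).obj ((EtCoh.bc f).obj W)) F N) :
    HPV i' r hi F N (R r ((EtCoh.bc f).obj W) (sg f W b l hl r f' hr)
      (sg_hom f W b l hl r f' hr) F N x) = rf f wi (ξ ≫ l) hξ F N x := by
  have e := sg_inc f W b l hl r f' hr ξ i' i hi hf wi hξ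
  have h1 : (i' ≫ sg f W b l hl r f' hr) ≫ ((EtCoh.bc f).obj W).hom = i := by
    rw [e]
    exact inc_hom f wi (ξ ≫ l) hξ
  rw [HPV_R i' r hi ((EtCoh.bc f).obj W) (sg f W b l hl r f' hr) (sg_hom f W b l hl r f' hr) h1 F N x]
  exact R_congr i _ h1 e F N x

omit [IsSepClosed Ω] in
theorem HPV_cX_aux (x : Ext.{u + 1} ((Zf X).obj ((EtCoh.bc f).obj W)) ((EtCoh.pull f).obj M) N)
    (w₃ : i' ≫ f' ≫ b = a ≫ ξ ≫ b) :
    HPV i' (f' ≫ b) w₃ M N (cX f W b l hl r f' hr M N x) =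
      (HPV i' r hi ((EtCoh.pull f).obj M) N (R r ((EtCoh.bc f).obj W) (sg f W b l hl r f' hr)
        (sg_hom f W b l hl r f' hr) ((EtCoh.pull f).obj M) N x)).comp (Ext.mk₀ (thh i f wi M))
          (add_zero N) := by
  rw [cX_def]
  exact (Via.HPV_conv i' r f hi hr w₃ wi M N (R r ((EtCoh.bc f).obj W) (sg f W b l hl r f' hr)
        (sg_hom f W b l hl r f' hr) ((EtCoh.pull f).obj M) N x)).symm

include hf hi hξ in
theorem HPV_cX (k : EtCoh.sect ((EtCoh.Rpush f N).obj ((EtCoh.pull f).obj M)) (EtCoh.top Y))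
    (x : Ext.{u + 1} ((Zf X).obj ((EtCoh.bc f).obj W)) ((EtCoh.pull f).obj M) N)
    (hx : RpushSec930.sec f N ((EtCoh.pull f).obj M) W x = res _ (toTop W) k)
    (w₃ : i' ≫ f' ≫ b = a ≫ ξ ≫ b) :
    HPV i' (f' ≫ b) w₃ M N (cX f W b l hl r f' hr M N x) = κM f wi M k := by
  rw [HPV_cX_aux f W b l hl r f' hr M N ξ i' i hi wi x w₃,
    HPV_R_sg f W b l hl r f' hr N ξ i' i hi hf wi hξ, rf_eq_κ₀ f wi k W (ξ ≫ l) hξ x hx]
  rfl

end Fib

end Groth.Agent.Etdl.H142.KapLoc
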