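import Groth.Agent.Sga4B.RpushSec930
import Groth.Agent.Etcore.MVShriek
import Groth.Agent.S0101

/-!
# Lifting cohomology classes to classes with support

`w : O ⟶ Q` an open immersion, `f : Q ⟶ S`, `R^N(w ≫ f)_* w^*F = 0`: every class in
`Ext^N(ℤ[f⁻¹V], F)` comes, locally on `V`, from `Ext^N(ℤ[f⁻¹V] / w_! w^* ℤ[f⁻¹V], F)`.
-/

set_option autoImplicit false
universe u

open CategoryTheory CategoryTheory.Limits AlgebraicGeometry Opposite CategoryTheory.Abelian

namespace Groth.Agent.Etdl.H142.LiftSupp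

open Groth.Agent.EtpbcA.CdDiesEt Groth.Agent.CurvesA Groth.Agent.Sga4B.RpushSec930

attribute [local instance 3000] hasSheafify hasExt

instance pullFL {X Y : Scheme.{u}} (f : X ⟶ Y) : PreservesFiniteLimits (EtCoh.pull f) :=
  S0101.result f

instance pullFC {X Y : Scheme.{u}} (f : X ⟶ Y) : PreservesFiniteColimits (EtCoh.pull f) :=
  EtCore.pull_preservesFiniteColimits f

section Supp

variable {O Q : Scheme.{u}} (w : O ⟶ Q) [IsOpenImmersion w]

instance shFL : PreservesFiniteLimits (EtShriek.extZero w) :=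
  Etcore.ShriekExact.preservesFiniteLimits_extZero w

instance shFC : PreservesFiniteColimits (EtShriek.extZero w) :=
  have : PreservesColimitsOfSize.{0, 0} (EtShriek.extZero w) :=
    (EtShriek.extZeroAdj w).leftAdjoint_preservesColimits
  PreservesColimitsOfSize.preservesFiniteColimits _

instance shAdd : (EtShriek.extZero w).Additive :=
  (Etcore.MVShriek.adj w).left_adjoint_additive

/-- `A / w_! w^* A`. -/
noncomputable abbrev cok (A : EtCoh.Ab Q) : EtCoh.Ab Q := cokernel (Etcore.MVShriek.c w A)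

/-- `A ⟶ A / w_! w^* A`. -/
noncomputable abbrev cokπ (A : EtCoh.Ab Q) : A ⟶ cok w A := cokernel.π (Etcore.MVShriek.c w A)

theorem comp_c_eq_zero {A F : EtCoh.Ab Q} {N : ℕ} (x : Ext.{u + 1} A F N)
    (h : (x.mapExactFunctor (EtCoh.pull w) : Ext.{u + 1} _ _ N) = 0) :
    (Ext.mk₀ (Etcore.MVShriek.c w A)).comp x (zero_add N) = 0 := by
  have hFL : PreservesFiniteLimits (EtCoh.pull w ⋙ EtShriek.extZero w) :=
    comp_preservesFiniteLimits _ _
  have hFC : PreservesFiniteColimits (EtCoh.pull w ⋙ EtShriek.extZero w) :=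
    comp_preservesFiniteColimits _ _
  have h1 := Etcore.ExtAdj.mapExactFunctor_nat (Etcore.MVShriek.adj w).counit x
  have h2 := Etcore.ExtAdj.mapExactFunctor_compFunctor (EtCoh.pull w) (EtShriek.extZero w) x
  have h3 : ((0 : Ext.{u + 1} ((EtCoh.pull w).obj A) ((EtCoh.pull w).obj F) N).mapExactFunctor
      (EtShriek.extZero w) : Ext.{u + 1} _ _ N) = 0 := by simp
  have h4 : x.mapExactFunctor (EtCoh.pull w ⋙ EtShriek.extZero w) = 0 :=
    (h2.trans (congrArg (Ext.mapExactFunctor (EtShriek.extZero w)) h)).trans h3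
  have h5 := Etcore.ExtAdj.mapExactFunctor_id x
  have h6 := h1.symm.trans ((congrArg (fun z => Ext.comp z (Ext.mk₀ _) (add_zero N)) h4).trans
    (Ext.zero_comp _ _ _ _ _))
  exact (congrArg (fun z => (Ext.mk₀ (Etcore.MVShriek.c w A)).comp z (zero_add N)) h5).symm.trans h6

/-- Lifting to the quotient `A / w_! w^* A`. -/
theorem exists_of_pull_eq_zero {A F : EtCoh.Ab Q} {N : ℕ} (x : Ext.{u + 1} A F N)
    (h : (x.mapExactFunctor (EtCoh.pull w) : Ext.{u + 1} _ _ N) = 0) :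
    ∃ y : Ext.{u + 1} (cok w A) F N, (Ext.mk₀ (cokπ w A)).comp y (zero_add N) = x := by
  have hm := Etcore.MVShriek.mono_c w A
  let T : ShortComplex (EtCoh.Ab Q) := ShortComplex.mk _ _ (cokernel.condition (Etcore.MVShriek.c w A))
  have hT : T.ShortExact := { exact := ShortComplex.exact_cokernel _ }
  exact Ext.contravariant_sequence_exact₂ hT F x (comp_c_eq_zero w x h)

end Supp

section Lift

variable {O Q S : Scheme.{u}} (w : O ⟶ Q) [IsOpenImmersion w] (f : Q ⟶ S) (F : EtCoh.Ab Q) (N : ℕ)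

/-- Classes on `f⁻¹V` vanish on `O ∩ f⁻¹V` after shrinking `V`. -/
theorem exists_pull_eq_zero (h : IsZero ((EtCoh.Rpush (w ≫ f) N).obj ((EtCoh.pull w).obj F)))
    (V : S.Etale) (v : V.left) (x : Ext.{u + 1} ((Zf Q).obj ((EtCoh.bc f).obj V)) F N) :
    ∃ (W : S.Etale) (g : W ⟶ V) (v' : W.left), g.left v' = v ∧
      (((Ext.mk₀ ((Zf Q).map ((EtCoh.bc f).map g))).comp x (zero_add N)).mapExactFunctor
        (EtCoh.pull w) : Ext.{u + 1} _ _ N) = 0 := by
  have h0 := (not_mem_supp_Rpush_iff' (w ≫ f) ((EtCoh.pull w).obj F) N (V.hom v)).1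
    (EtpbcA.Artin.supp_eq_empty_of_isZero h _) V v rfl
  let e0 : EtCoh.bc f ⋙ EtCoh.bc w ≅ EtCoh.bc (w ≫ f) :=
    (MorphismProperty.Over.pullbackComp (P := EtCoh.etaleMP) (Q := ⊤) w f).symm
  let e : EtCoh.bc (w ≫ f) ⋙ Zf O ≅ EtCoh.bc f ⋙ Zf Q ⋙ EtCoh.pull w :=
    Functor.isoWhiskerRight e0.symm (Zf O) ≪≫ Functor.associator _ _ _ ≪≫
      Functor.isoWhiskerLeft (EtCoh.bc f) (zPullIso w)
  obtain ⟨W, g, v', hv', hx⟩ := h0
    ((Ext.mk₀ (e.hom.app V)).comp (x.mapExactFunctor (EtCoh.pull w)) (zero_add N))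
  refine ⟨W, g, v', hv', ?_⟩
  have hnat : (Zf O).map ((EtCoh.bc (w ≫ f)).map g) ≫ e.hom.app V =
      e.hom.app W ≫ (EtCoh.pull w).map ((Zf Q).map ((EtCoh.bc f).map g)) := e.hom.naturality g
  have h1 : (Ext.mk₀ (e.hom.app W)).comp
      (((Ext.mk₀ ((Zf Q).map ((EtCoh.bc f).map g))).comp x (zero_add N)).mapExactFunctor
        (EtCoh.pull w) : Ext.{u + 1} _ _ N) (zero_add N) = 0 := by
    rw [Ext.mapExactFunctor_comp, Ext.mapExactFunctor_mk₀, ← Ext.comp_assoc_of_second_deg_zero,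
      Ext.mk₀_comp_mk₀, ← hnat, ← Ext.mk₀_comp_mk₀, Ext.comp_assoc_of_second_deg_zero]
    exact hx
  have h2 := congrArg (fun z => (Ext.mk₀ (e.inv.app W)).comp z (zero_add N)) h1
  simp only [Ext.comp_zero] at h2
  rw [← Ext.comp_assoc_of_second_deg_zero, Ext.mk₀_comp_mk₀, e.inv_hom_id_app, Ext.mk₀_id_comp] at h2
  exact h2

/-- **Local lifting to classes with support.** -/
theorem exists_lift (h : IsZero ((EtCoh.Rpush (w ≫ f) N).obj ((EtCoh.pull w).obj F)))
    (V : S.Etale) (v : V.left) (x : Ext.{u + 1} ((Zf Q).obj ((EtCoh.bc f).obj V)) F N) :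
    ∃ (W : S.Etale) (g : W ⟶ V) (v' : W.left), g.left v' = v ∧
      ∃ y : Ext.{u + 1} (cok w ((Zf Q).obj ((EtCoh.bc f).obj W))) F N,
        (Ext.mk₀ (cokπ w _)).comp y (zero_add N) =
          (Ext.mk₀ ((Zf Q).map ((EtCoh.bc f).map g))).comp x (zero_add N) := by
  obtain ⟨W, g, v', hv', hx⟩ := exists_pull_eq_zero w f F N h V v x
  exact ⟨W, g, v', hv', exists_of_pull_eq_zero w _ hx⟩

end Lift

end Groth.Agent.Etdl.H142.LiftSupp
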