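import Groth.Agent.EtpbcB.PBCVan
import Groth.Agent.S0659
import Groth.Agent.S0101
import Mathlib.AlgebraicGeometry.Restrict

/-!
# Mayer–Vietoris vanishing for higher direct images
-/

set_option autoImplicit false
universe u

open CategoryTheory CategoryTheory.Limits AlgebraicGeometry Opposite
open Groth.Agent.EtpbcB

namespace Groth.Agent.Etdl.H142.MVRpush

instance pullFL {X Y : Scheme.{u}} (f : X ⟶ Y) : PreservesFiniteLimits (EtCoh.pull f) :=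
  S0101.result f

/-- Mayer–Vietoris vanishing on global cohomology. -/
theorem subsingleton_H_of_mv {X : Scheme.{u}} (U V : X.Opens) (hUV : U ⊔ V = ⊤) (F : EtCoh.Ab X)
    (q : ℕ) (h1 : Subsingleton (EtCoh.H ↑U ((EtCoh.pull U.ι).obj F) (q + 1)))
    (h2 : Subsingleton (EtCoh.H ↑V ((EtCoh.pull V.ι).obj F) (q + 1)))
    (h12 : Subsingleton (EtCoh.H ↑(U ⊓ V) ((EtCoh.pull (U ⊓ V).ι).obj F) q)) :
    Subsingleton (EtCoh.H X F (q + 1)) := by
  obtain ⟨δ, -, h, -, -⟩ := S0659.result X U V hUV F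
  refine subsingleton_of_forall_eq 0 (fun x => ?_)
  have hx : x ∈ (AddMonoidHom.prod (EtCore.Hpull U.ι F (q + 1))
      (EtCore.Hpull V.ι F (q + 1))).ker := by
    rw [AddMonoidHom.mem_ker]
    exact Prod.ext (Subsingleton.elim _ _) (Subsingleton.elim _ _)
  rw [h q] at hx
  obtain ⟨y, rfl⟩ := hx
  rw [Subsingleton.elim y 0, map_zero]

/-- The vanishing of `R^q` along an open subscheme, read off on a strict localization. -/
theorem subsingleton_of_van {X S T X' : Scheme.{u}} (f : X ⟶ S) (t : T ⟶ S) (g : X' ⟶ X)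
    (r : X' ⟶ T) (hc : IsPullback g r f t) (U : X.Opens) (F : EtCoh.Ab X) (n : ℕ)
    (h : PBCVan.Van (U.ι ≫ f) t ((EtCoh.pull U.ι).obj F) n) :
    Subsingleton (EtCoh.H ↑(g ⁻¹ᵁ U) ((EtCoh.pull (g ⁻¹ᵁ U).ι).obj ((EtCoh.pull g).obj F)) n) := by
  have hsq : IsPullback (g ∣_ U) ((g ⁻¹ᵁ U).ι ≫ r) (U.ι ≫ f) t := by
    have h1 : IsPullback (g ∣_ U) (g ⁻¹ᵁ U).ι U.ι g := isPullback_morphismRestrict g U
    exact h1.paste_vert hc
  rw [PBCVan.van_iff hsq] at h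
  have hw : (g ∣_ U) ≫ U.ι = (g ⁻¹ᵁ U).ι ≫ g := morphismRestrict_ι g U
  let e1 := IsoTransport.HPullComp (g ∣_ U) U.ι ((g ⁻¹ᵁ U).ι ≫ g) hw F n
  let e2 := IsoTransport.HPullComp (g ⁻¹ᵁ U).ι g ((g ⁻¹ᵁ U).ι ≫ g) rfl F n
  exact (e2.symm.trans e1).toEquiv.subsingleton_congr.2 h

/-- **Mayer–Vietoris vanishing** for higher direct images. -/
theorem isZero_Rpush_of_mv {X S : Scheme.{u}} (f : X ⟶ S) [QuasiCompact f] [QuasiSeparated f]
    (U V : X.Opens) (hUV : U ⊔ V = ⊤) [QuasiCompact (U.ι ≫ f)] [QuasiCompact (V.ι ≫ f)]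
    [QuasiCompact ((U ⊓ V).ι ≫ f)] (F : EtCoh.Ab X) (q : ℕ)
    (h1 : IsZero ((EtCoh.Rpush (U.ι ≫ f) (q + 1)).obj ((EtCoh.pull U.ι).obj F)))
    (h2 : IsZero ((EtCoh.Rpush (V.ι ≫ f) (q + 1)).obj ((EtCoh.pull V.ι).obj F)))
    (h12 : IsZero ((EtCoh.Rpush ((U ⊓ V).ι ≫ f) q).obj ((EtCoh.pull (U ⊓ V).ι).obj F))) :
    IsZero ((EtCoh.Rpush f (q + 1)).obj F) := by
  refine PBCVan.isZero_Rpush_of_van f F (q + 1) (fun s R _ _ _ _ _ _ _ => ?_)
  have v1 := PBCVan.van_of_isZero_Rpush (U.ι ≫ f) _ _ h1 s R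
  have v2 := PBCVan.van_of_isZero_Rpush (V.ι ≫ f) _ _ h2 s R
  have v12 := PBCVan.van_of_isZero_Rpush ((U ⊓ V).ι ≫ f) _ _ h12 s R
  have hc := IsPullback.of_hasPullback f (Hens2.specOf S s R)
  unfold PBCVan.Van
  have w1 := subsingleton_of_van f _ _ _ hc U F _ v1
  have w2 := subsingleton_of_van f _ _ _ hc V F _ v2
  have w12 := subsingleton_of_van f _ _ _ hc (U ⊓ V) F _ v12
  refine subsingleton_H_of_mv (pullback.fst f (Hens2.specOf S s R) ⁻¹ᵁ U)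
    (pullback.fst f (Hens2.specOf S s R) ⁻¹ᵁ V) ?_ _ q w1 w2 w12
  rw [← Scheme.Hom.preimage_sup, hUV]
  rfl

end Groth.Agent.Etdl.H142.MVRpush
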