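import Groth.Agent.Etdl.H142.OffZero

/-!
# Base change of the iterated projective line
-/

set_option autoImplicit false
universe u

open CategoryTheory CategoryTheory.Limits AlgebraicGeometry Opposite

namespace Groth.Agent.Etdl.H142.MapP

open Groth.Agent.Sga4B Groth.Agent.Sga4B.IterP1 OffZero

variable {T S R : Scheme.{u}}

/-- `(ℙ¹_T)^d ⟶ (ℙ¹_S)^d`. -/
noncomputable def mapP (t : T ⟶ S) : (d : ℕ) → (P T d ⟶ P S d)
  | 0 => t
  | d + 1 => P1.toP1 (mapP t d)

theorem isPullback_mapP (t : T ⟶ S) (d : ℕ) :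
    IsPullback (mapP t d) (toBase T d) (toBase S d) t := by
  induction d with
  | zero =>
    have h : IsPullback t (𝟙 T) (𝟙 S) t := IsPullback.of_vert_isIso ⟨by simp⟩
    exact h
  | succ d ih => exact (P1Geom.isPullback_toP1 (mapP t d)).paste_vert ih

@[reassoc]
theorem mapP_toBase (t : T ⟶ S) (d : ℕ) : mapP t d ≫ toBase S d = toBase T d ≫ t :=
  (isPullback_mapP t d).w

theorem isPullback_zero (t : T ⟶ S) (d : ℕ) :
    IsPullback t (zero T d) (zero S d) (mapP t d) := by
  induction d with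
  | zero =>
    have h : IsPullback t (𝟙 T) (𝟙 S) t := IsPullback.of_vert_isIso ⟨by simp⟩
    exact h
  | succ d ih => exact ih.paste_vert (P1Geom.isPullback_sect_toP1 (mapP t d) 0)

@[reassoc]
theorem zero_mapP (t : T ⟶ S) (d : ℕ) : zero T d ≫ mapP t d = t ≫ zero S d :=
  (isPullback_zero t d).w.symm

theorem mapP_mem_off_iff (t : T ⟶ S) (d : ℕ) (z : P T d) :
    mapP t d z ∈ off S d ↔ z ∈ off T d := by
  rw [mem_off_iff, mem_off_iff, not_iff_not, P1Geom.isPullback_range (isPullback_zero t d)]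
  rfl

theorem mapP_comp (s : R ⟶ T) (t : T ⟶ S) (d : ℕ) : mapP (s ≫ t) d = mapP s d ≫ mapP t d := by
  induction d with
  | zero => rfl
  | succ d ih =>
    change P1.toP1 (mapP (s ≫ t) d) = P1.toP1 (mapP s d) ≫ P1.toP1 (mapP t d)
    rw [ih]
    apply (P1Geom.isPullback_toZ (P S d)).hom_ext
    · rw [P1Geom.toP1_toZ, Category.assoc, P1Geom.toP1_toZ, P1Geom.toP1_toZ]
    · rw [P1Geom.toP1_toBase, Category.assoc, P1Geom.toP1_toBase, P1Geom.toP1_toBase_assoc]

theorem mapP_id (S : Scheme.{u}) (d : ℕ) : mapP (𝟙 S) d = 𝟙 (P S d) := by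
  induction d with
  | zero => rfl
  | succ d ih =>
    change P1.toP1 (mapP (𝟙 S) d) = 𝟙 (CohB1.ProjSpaceOver 1 (P S d))
    rw [ih]
    apply (P1Geom.isPullback_toZ (P S d)).hom_ext
    · rw [P1Geom.toP1_toZ, Category.id_comp]
    · rw [P1Geom.toP1_toBase, Category.id_comp, Category.comp_id]

end Groth.Agent.Etdl.H142.MapP
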