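import Groth.Agent.Etdl.H142.VanAbove

/-!
# The complement of the zero section in `(ℙ¹_S)^d`

* `zero S d : S ⟶ P S d`, the zero section of the cell `𝔸^d`;
* `off S d : (P S d).Opens`, its complement;
* `vanAbove_off`: `R^q π_* π^* F = 0` for `q ≥ 2 d`, `π : off S d ⟶ S`, `F` killed by `n` invertible on `S`;
* `vanAbove_toBase`: `R^q π_* π^* F = 0` for `q > 2 d`, `π : P S d ⟶ S`.
-/

set_option autoImplicit false
universe u

open CategoryTheory CategoryTheory.Limits AlgebraicGeometry Opposite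

namespace Groth.Agent.Etdl.H142.OffZero

open Groth.Agent.Sga4B Groth.Agent.Sga4B.IterP1 VanAbove

/-- The zero section of `(ℙ¹_S)^d`. -/
noncomputable def zero (S : Scheme.{u}) : (d : ℕ) → (S ⟶ P S d)
  | 0 => 𝟙 S
  | d + 1 => zero S d ≫ P1.sect (P S d) 0

theorem zero_toBase (S : Scheme.{u}) (d : ℕ) : zero S d ≫ toBase S d = 𝟙 S := by
  induction d with
  | zero => exact Category.comp_id _
  | succ d ih =>
    change (zero S d ≫ P1.sect (P S d) 0) ≫
      (CohB1.ProjSpaceOver.toBase 1 (P S d) ≫ toBase S d) = _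
    rw [Category.assoc, P1Geom.sect_toBase_assoc, ih]

instance isClosedImmersion_zero (S : Scheme.{u}) (d : ℕ) : IsClosedImmersion (zero S d) := by
  induction d with
  | zero => exact (inferInstance : IsClosedImmersion (𝟙 S))
  | succ d ih => exact (inferInstance : IsClosedImmersion (zero S d ≫ P1.sect (P S d) 0))

/-- The complement of the zero section. -/
noncomputable def off (S : Scheme.{u}) : (d : ℕ) → (P S d).Opens
  | 0 => ⊥
  | d + 1 => (CohB1.ProjSpaceOver.toBase 1 (P S d)) ⁻¹ᵁ (off S d) ⊔ (P1Geom.v (P S d) 1).opensRange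

theorem mem_off_iff (S : Scheme.{u}) (d : ℕ) (z : P S d) :
    z ∈ off S d ↔ z ∉ Set.range (zero S d) := by
  induction d with
  | zero =>
    refine iff_of_false (fun h => h) (fun h => h ⟨z, rfl⟩)
  | succ d ih =>
    have h1 : z ∈ off S (d + 1) ↔
        (CohB1.ProjSpaceOver.toBase 1 (P S d) z ∈ off S d ∨ z ∈ Set.range (P1Geom.v (P S d) 1)) :=
      Iff.rfl
    have h2 : Set.range (P1Geom.v (P S d) 1) = (Set.range (P1.sect (P S d) 0))ᶜ :=
      P1Geom.range_v_eq (P S d) 1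
    rw [h1, ih, h2]
    constructor
    · rintro (h | h) ⟨s, rfl⟩
      · apply h
        refine ⟨s, ?_⟩
        change _ = CohB1.ProjSpaceOver.toBase 1 (P S d) ((zero S d ≫ P1.sect (P S d) 0) s)
        rw [← Scheme.Hom.comp_apply, Category.assoc, P1Geom.sect_toBase, Category.comp_id]
      · exact h ⟨zero S d s, (Scheme.Hom.comp_apply _ _ _).symm⟩
    · intro h
      by_contra hc
      rw [not_or, not_not] at hc
      obtain ⟨⟨s, hs⟩, hz⟩ := hc
      obtain ⟨y, rfl⟩ : z ∈ Set.range (P1.sect (P S d) 0) := by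
        by_contra h3
        exact hz h3
      apply h
      refine ⟨s, ?_⟩
      rw [← Scheme.Hom.comp_apply, P1Geom.sect_toBase] at hs
      change (zero S d ≫ P1.sect (P S d) 0) s = _
      rw [Scheme.Hom.comp_apply]
      exact congrArg _ hs

theorem range_zero (S : Scheme.{u}) (d : ℕ) :
    Set.range (zero S d) = ((off S d : (P S d).Opens) : Set (P S d))ᶜ := by
  ext z
  rw [Set.mem_compl_iff]
  exact (not_iff_comm.1 (mem_off_iff S d z).symm).symm

variable {n : ℕ}

theorem vanAbove_toBase (hn0 : 0 < n) (S : Scheme.{u}) (d : ℕ) :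
    VanAbove n (2 * d + 1) (toBase S d) := by
  induction d with
  | zero => exact VanAbove.id S
  | succ d ih => exact VanAbove.P1 ih hn0

/-- Quasi-compactness from a cover by two opens. -/
theorem quasiCompact_of_cover {X S : Scheme.{u}} (f : X ⟶ S) (U V : X.Opens) (hUV : U ⊔ V = ⊤)
    (hU : QuasiCompact (U.ι ≫ f)) (hV : QuasiCompact (V.ι ≫ f)) : QuasiCompact f := by
  refine ⟨fun T hT hc => ?_⟩
  have h1 := (hU.isCompact_preimage T hT hc).image U.ι.continuous
  have h2 := (hV.isCompact_preimage T hT hc).image V.ι.continuous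
  have e : (f ⁻¹' T : Set X) = (U.ι '' ((U.ι ≫ f) ⁻¹' T)) ∪ (V.ι '' ((V.ι ≫ f) ⁻¹' T)) := by
    ext x
    constructor
    · intro hx
      have hx' : x ∈ U ⊔ V := by rw [hUV]; trivial
      rcases hx' with h | h
      · refine Or.inl ⟨⟨x, h⟩, ?_, rfl⟩
        change (U.ι ≫ f) ⟨x, h⟩ ∈ T
        rw [Scheme.Hom.comp_apply]
        exact hx
      · refine Or.inr ⟨⟨x, h⟩, ?_, rfl⟩
        change (V.ι ≫ f) ⟨x, h⟩ ∈ T
        rw [Scheme.Hom.comp_apply]
        exact hx
    · rintro (⟨y, hy, rfl⟩ | ⟨y, hy, rfl⟩)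
      · change f (U.ι y) ∈ T
        rw [← Scheme.Hom.comp_apply]
        exact hy
      · change f (V.ι y) ∈ T
        rw [← Scheme.Hom.comp_apply]
        exact hy
  rw [e]
  exact h1.union h2

/-- Quasi-compactness of `f` along open immersions with the same range. -/
theorem quasiCompact_of_range_eq {A B X S : Scheme.{u}} (a : A ⟶ X) (b : B ⟶ X) [IsOpenImmersion a]
    [IsOpenImmersion b] (hr : Set.range a = Set.range b) (f : X ⟶ S) (h : QuasiCompact (b ≫ f)) :
    QuasiCompact (a ≫ f) := by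
  have h1 : QuasiCompact ((IsOpenImmersion.isoOfRangeEq a b hr).hom ≫ b ≫ f) := inferInstance
  rwa [IsOpenImmersion.isoOfRangeEq_hom_fac_assoc] at h1

theorem range_preimage {X : Scheme.{u}} (W C : X.Opens) (h : C ≤ W) :
    Set.range ((W.ι ⁻¹ᵁ C).ι ≫ W.ι) = (C : Set X) := by
  ext x
  constructor
  · rintro ⟨⟨y, hy⟩, rfl⟩
    rw [Scheme.Hom.comp_apply]
    exact hy
  · intro hx
    refine ⟨⟨⟨x, h hx⟩, hx⟩, ?_⟩
    rw [Scheme.Hom.comp_apply]
    rfl

/-- quasi-compact, with vanishing. -/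
structure Good (n m : ℕ) {Y S : Scheme.{u}} (g : Y ⟶ S) : Prop where
  qc : QuasiCompact g
  van : VanAbove n m g

theorem Good.of_range_eq {A B X S : Scheme.{u}} {m : ℕ} (a : A ⟶ X) (b : B ⟶ X) [IsOpenImmersion a]
    [IsOpenImmersion b] (hr : Set.range a = Set.range b) (f : X ⟶ S) (h : Good n m (b ≫ f)) :
    Good n m (a ≫ f) :=
  ⟨quasiCompact_of_range_eq a b hr f h.qc, VanAbove.of_range_eq a b hr f h.van⟩

theorem Good.P1 {Y S : Scheme.{u}} {m : ℕ} {g : Y ⟶ S} (h : Good n m g) (hn0 : 0 < n) :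
    Good n (m + 2) (CohB1.ProjSpaceOver.toBase 1 Y ≫ g) :=
  have := h.qc
  ⟨inferInstance, h.van.P1 hn0⟩

theorem Good.line {Y S : Scheme.{u}} {m : ℕ} {g : Y ⟶ S} (h : Good n m g)
    (hn : IsUnit (n : Γ(S, ⊤))) : Good n m ((𝔸(P1Geom.I.{u}; Y) ↘ Y) ≫ g) :=
  have := h.qc
  ⟨inferInstance, h.van.line hn⟩

theorem Good.mono {Y S : Scheme.{u}} {m m' : ℕ} {g : Y ⟶ S} (h : Good n m g) (hm : m ≤ m') :
    Good n m' g :=
  ⟨h.qc, h.van.mono hm⟩

theorem Good.mv {X S : Scheme.{u}} {m : ℕ} (f : X ⟶ S) [QuasiSeparated f]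
    (U V : X.Opens) (hUV : U ⊔ V = ⊤) (hU : Good n (m + 1) (U.ι ≫ f))
    (hV : Good n (m + 1) (V.ι ≫ f)) (hI : Good n m ((U ⊓ V).ι ≫ f)) : Good n (m + 1) f :=
  have := hU.qc
  have := hV.qc
  have := hI.qc
  have hq : QuasiCompact f := quasiCompact_of_cover f U V hUV hU.qc hV.qc
  ⟨hq, VanAbove.mv f U V hUV hU.van hV.van hI.van⟩

/-- **Vanishing off the zero section.** -/
theorem good_off (hn0 : 0 < n) (S : Scheme.{u}) (hn : IsUnit (n : Γ(S, ⊤))) (d : ℕ) :
    Good n (2 * d) ((off S d).ι ≫ toBase S d) := by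
  induction d with
  | zero =>
    have h0 : IsEmpty ((off S 0 : (P S 0).Opens) : Scheme.{u}) := ⟨fun x => x.2⟩
    refine ⟨⟨fun T _ _ => ?_⟩, VanAbove.of_isEmpty _⟩
    rw [Set.eq_empty_of_isEmpty (((off S 0).ι ≫ toBase S 0) ⁻¹' T)]
    exact isCompact_empty
  | succ d ih =>
    let Y : Scheme.{u} := P S d
    let g : Y ⟶ S := toBase S d
    let p : CohB1.ProjSpaceOver 1 Y ⟶ Y := CohB1.ProjSpaceOver.toBase 1 Y
    let O' : Y.Opens := off S d
    let A : (CohB1.ProjSpaceOver 1 Y).Opens := p ⁻¹ᵁ O'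
    let B : (CohB1.ProjSpaceOver 1 Y).Opens := (P1Geom.v Y 1).opensRange
    let W : (CohB1.ProjSpaceOver 1 Y).Opens := A ⊔ B
    let U : (W : Scheme.{u}).Opens := W.ι ⁻¹ᵁ A
    let V : (W : Scheme.{u}).Opens := W.ι ⁻¹ᵁ B
    have hUV : U ⊔ V = ⊤ := by
      ext x
      exact ⟨fun _ => trivial, fun _ => x.2⟩
    have ih' : Good n (2 * d) (O'.ι ≫ g) := ih
    have hm1 : IsOpenImmersion (P1.toP1 O'.ι) :=
      MorphismProperty.of_isPullback (P := @IsOpenImmersion) (P1Geom.isPullback_toP1 O'.ι).flip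
        inferInstance
    have hr1 : Set.range (P1.toP1 O'.ι) = (A : Set (CohB1.ProjSpaceOver 1 Y)) := by
      rw [P1Geom.isPullback_range (P1Geom.isPullback_toP1 O'.ι).flip, Scheme.Opens.range_ι]
      rfl
    have hm2 : IsOpenImmersion (AffineSpace.map P1Geom.I.{u} O'.ι) := inferInstance
    have hr2 : Set.range (AffineSpace.map P1Geom.I.{u} O'.ι ≫ P1Geom.v Y 1) =
        ((A ⊓ B : (CohB1.ProjSpaceOver 1 Y).Opens) : Set (CohB1.ProjSpaceOver 1 Y)) := by
      have h3 := P1Geom.isPullback_range (AffineSpace.isPullback_map (n := P1Geom.I.{u}) O'.ι).flip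
      ext z
      constructor
      · rintro ⟨y, rfl⟩
        rw [Scheme.Hom.comp_apply]
        refine ⟨?_, ⟨_, rfl⟩⟩
        change p (P1Geom.v Y 1 (AffineSpace.map P1Geom.I.{u} O'.ι y)) ∈ O'
        rw [← Scheme.Hom.comp_apply, P1Geom.v_toBase, ← Scheme.Hom.comp_apply, AffineSpace.map_over,
          Scheme.Hom.comp_apply]
        exact (_ : (O' : Scheme.{u})).2
      · rintro ⟨hz, ⟨y, rfl⟩⟩
        have hy : y ∈ Set.range (AffineSpace.map P1Geom.I.{u} O'.ι) := by
          rw [h3, Scheme.Opens.range_ι]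
          have hz' : p (P1Geom.v Y 1 y) ∈ O' := hz
          rw [← Scheme.Hom.comp_apply, P1Geom.v_toBase] at hz'
          exact hz'
        obtain ⟨w, rfl⟩ := hy
        exact ⟨w, Scheme.Hom.comp_apply _ _ _⟩
    -- `U`
    have hU : Good n (2 * d + 2) (U.ι ≫ W.ι ≫ p ≫ g) := by
      rw [← Category.assoc]
      refine Good.of_range_eq _ (P1.toP1 O'.ι) ?_ (p ≫ g) ?_
      · rw [hr1]
        exact range_preimage W A le_sup_left
      · rw [P1Geom.toP1_toBase_assoc]
        exact ih'.P1 hn0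
    -- `V`
    have hV : Good n (2 * d + 2) (V.ι ≫ W.ι ≫ p ≫ g) := by
      rw [← Category.assoc]
      refine Good.of_range_eq _ (P1Geom.v Y 1) ?_ (p ≫ g) ?_
      · exact range_preimage W B le_sup_right
      · rw [P1Geom.v_toBase_assoc]
        have h0 : Good n (2 * d + 1) g := ⟨inferInstance, vanAbove_toBase hn0 S d⟩
        exact (h0.line hn).mono (Nat.le_succ _)
    -- `U ⊓ V`
    have hI : Good n (2 * d) ((U ⊓ V).ι ≫ W.ι ≫ p ≫ g) := by
      rw [← Category.assoc]
      refine Good.of_range_eq _ (AffineSpace.map P1Geom.I.{u} O'.ι ≫ P1Geom.v Y 1) ?_ (p ≫ g) ?_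
      · rw [hr2]
        exact range_preimage W (A ⊓ B) (inf_le_left.trans le_sup_left)
      · rw [Category.assoc, P1Geom.v_toBase_assoc, AffineSpace.map_over_assoc]
        exact ih'.line hn
    exact Good.mv (W.ι ≫ p ≫ g) U V hUV hU hV (hI.mono (Nat.le_succ _))

theorem vanAbove_off (hn0 : 0 < n) (S : Scheme.{u}) (hn : IsUnit (n : Γ(S, ⊤))) (d : ℕ) :
    VanAbove n (2 * d) ((off S d).ι ≫ toBase S d) :=
  (good_off hn0 S hn d).van

instance quasiCompact_off (S : Scheme.{u}) (d : ℕ) : QuasiCompact ((off S d).ι ≫ toBase S d) :=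
  (good_off (n := 1) Nat.one_pos S (by simp) d).qc

end Groth.Agent.Etdl.H142.OffZero
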