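import Groth.Agent.Etdl.H142.SecFib
import Groth.Agent.Sga4B.DiagM5

/-!
# Elementwise proper base change in the form `SecFib.Surj`, `SecFib.Inj`
-/

set_option autoImplicit false
universe u

open CategoryTheory CategoryTheory.Limits AlgebraicGeometry Opposite CategoryTheory.Abelian

namespace Groth.Agent.Etdl.H142.SecFibM5

open Groth.Agent.EtpbcA Groth.Agent.EtpbcA.CdDiesEt Groth.Agent.CurvesA
open Groth.Agent.Etcore.LocSec Groth.Agent.Etcore.Loc Groth.Agent.Etcore.ZU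
open Groth.Agent.Sga4B.DualShape Groth.Agent.Sga4B ClassRes SecFib

variable {X Y X₀ : Scheme.{u}} (f : X ⟶ Y) {Ω : Type u} [Field Ω]
  {ξ : Spec (CommRingCat.of Ω) ⟶ Y} {a : X₀ ⟶ Spec (CommRingCat.of Ω)} {i : X₀ ⟶ X}

section

variable (w : i ≫ f = a ≫ ξ) {U : Y.Etale} (l : Spec (CommRingCat.of Ω) ⟶ U.left)
  (hl : l ≫ U.hom = ξ)

theorem mkSec_eq_sec :
    mkSec i ((EtCoh.bc f).obj U) (inc f w l hl) (inc_hom f w l hl) =
      DiagM5.sec f ξ a i w l hl := by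
  apply DiagM5.sec_unique
  have h1 := mkSec_left_fst i ((EtCoh.bc f).obj U) (inc f w l hl) (inc_hom f w l hl)
  refine (Category.assoc _ _ _).symm.trans ?_
  refine Eq.trans (congrArg (· ≫ Sga4A.EtStalk.bcFst f U) h1) ?_
  exact inc_fst f w l hl

/-- `ℤ ≅ ℤ[X₀]` -/
noncomputable def jj (X₀ : Scheme.{u}) : EtCoh.const X₀ ℤ ≅ ZS (EtCoh.top X₀) :=
  (isGen_one X₀).iso (isGen_univJ (EtCoh.top X₀))

theorem app_jj : app (jj X₀).hom (EtCoh.top X₀) (one X₀) = Jshriek.univ (EtCoh.top X₀) ℤ 1 :=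
  (isGen_one X₀).desc_app _

theorem zfib_eq : cmap (isGen_one X₀) i
      (mkSec i ((EtCoh.bc f).obj U) (inc f w l hl) (inc_hom f w l hl))
      (SiteZU.univ.{u + 1} ((EtCoh.bc f).obj U)) ≫
        (EtCoh.pull i).map (DualWBasic.ofZf ((EtCoh.bc f).obj U)) =
      (jj X₀).hom ≫ DiagM5.zfib f ξ a i w l hl := by
  apply hext (isGen_one X₀)
  rw [cmap_map, app_ofSec, app_comp, app_jj, mkSec_eq_sec]
  have h1 := DiagM5.zeta_ev i (DiagM5.sec f ξ a i w l hl) (𝟙 (ZS ((EtCoh.bc f).obj U)))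
  rw [CategoryTheory.Functor.map_id, Category.comp_id] at h1
  have h2 : app (DualWBasic.ofZf ((EtCoh.bc f).obj U)) ((EtCoh.bc f).obj U)
      (SiteZU.univ.{u + 1} ((EtCoh.bc f).obj U)) = Jshriek.univ ((EtCoh.bc f).obj U) ℤ 1 :=
    DualWBasic.ofZf_univ _
  rw [h2]
  exact h1.symm

theorem rf_eq_fibRes (F : EtCoh.Ab X) (N : ℕ) (δ : Ext.{u + 1} (ZS ((EtCoh.bc f).obj U)) F N) :
    rf f w l hl F N ((Ext.mk₀ (DualWBasic.ofZf ((EtCoh.bc f).obj U))).comp δ (zero_add N)) =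
      (Ext.mk₀ (jj X₀).hom).comp (DiagM5.fibRes f ξ a i w l hl δ) (zero_add N) := by
  rw [rf, R_eq, Ext.mapExactFunctor_comp, Ext.mapExactFunctor_mk₀, Ext.mk₀_comp_mk₀_assoc,
    zfib_eq, ← Ext.mk₀_comp_mk₀_assoc]

theorem rf_eq_fibRes' (F : EtCoh.Ab X) (N : ℕ)
    (x : Ext.{u + 1} ((Zf X).obj ((EtCoh.bc f).obj U)) F N) :
    rf f w l hl F N x = (Ext.mk₀ (jj X₀).hom).comp (DiagM5.fibRes f ξ a i w l hl
      ((Ext.mk₀ (DualWBasic.toZf ((EtCoh.bc f).obj U))).comp x (zero_add N))) (zero_add N) := by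
  rw [← rf_eq_fibRes, Ext.mk₀_comp_mk₀_assoc, DualWBasic.ofZf_toZf, Ext.mk₀_id_comp]

end

variable [IsProper f] [IsSepClosed Ω] (h : IsPullback i a f ξ)

theorem surj {F : EtCoh.Ab X} (hF : EtCoh.IsTorsion F) (N : ℕ) : Surj f h.w F N := by
  intro e
  obtain ⟨U, l, hl, δ, hδ⟩ := DiagM5.exists_extension f ξ a i h hF
    ((Ext.mk₀ (jj X₀).inv).comp e (zero_add N))
  refine ⟨U, l, hl, (Ext.mk₀ (DualWBasic.ofZf ((EtCoh.bc f).obj U))).comp δ (zero_add N), ?_⟩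
  rw [rf_eq_fibRes, hδ, Ext.mk₀_comp_mk₀_assoc, Iso.hom_inv_id, Ext.mk₀_id_comp]

/-- Composition with an isomorphism is injective. -/
theorem eq_zero_of_mk₀_comp {Z : Scheme.{u}} {A B G : EtCoh.Ab Z} {N : ℕ} (a : A ⟶ B) (b : B ⟶ A)
    (hba : b ≫ a = 𝟙 B) (x : Ext.{u + 1} B G N) (h : (Ext.mk₀ a).comp x (zero_add N) = 0) :
    x = 0 := by
  have h1 := congrArg (fun z => (Ext.mk₀ b).comp z (zero_add N)) h
  rw [Ext.comp_zero, Ext.mk₀_comp_mk₀_assoc, hba, Ext.mk₀_id_comp] at h1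
  exact h1

theorem inj {F : EtCoh.Ab X} (hF : EtCoh.IsTorsion F) (N : ℕ) : Inj f h.w F N := by
  intro U l hl x hx
  rw [rf_eq_fibRes'] at hx
  have h1 := eq_zero_of_mk₀_comp (jj X₀).hom (jj X₀).inv (jj X₀).inv_hom_id _ hx
  obtain ⟨V, g, l', hl', h2, h3⟩ := DiagM5.dies_of_fibRes_eq_zero f ξ a i h hF l hl _ h1
  refine ⟨V, g, l', hl', h2, ?_⟩
  have h4 := (DualWBasic.zfIso X).inv.naturality ((EtCoh.bc f).map g)
  have h5 : ZSmap ((EtCoh.bc f).map g) ≫ DualWBasic.toZf ((EtCoh.bc f).obj U) =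
      DualWBasic.toZf ((EtCoh.bc f).obj V) ≫ (Zf X).map ((EtCoh.bc f).map g) := h4
  rw [Ext.mk₀_comp_mk₀_assoc, h5, ← Ext.mk₀_comp_mk₀_assoc] at h3
  exact eq_zero_of_mk₀_comp _ _ (DualWBasic.ofZf_toZf ((EtCoh.bc f).obj V)) _ h3

end Groth.Agent.Etdl.H142.SecFibM5
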