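import Groth.Agent.Cohder.RDLES
import Groth.Agent.Sga4h.LerayAcyc

/-!
# The Leray isomorphism in the top degree

`F : A ⥤ B` left exact preserving injectives, `G : B ⥤ C` additive. If `R^j F X = 0` for `j > b` and
`R^i G (R^j F X) = 0` for `i > a` and all `j`, then `R^{a+b}(F ⋙ G) X ≅ R^a G (R^b F X)` (`a ≥ 1`).
-/

set_option autoImplicit false

open CategoryTheory CategoryTheory.Limits

namespace Groth.Agent.Etdl.H142.TopLeray

open Groth.Agent.Cohder Groth.Agent.Sga4h

universe v₁ v₂ v₃ u₁ u₂ u₃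

section LES

variable {A : Type u₁} {B : Type u₂} [Category.{v₁} A] [Category.{v₂} B] [Abelian A] [Abelian B]
  [HasInjectiveResolutions A] (T : A ⥤ B) [T.Additive] {S : ShortComplex A} (hS : S.ShortExact)

include hS

/-- Dimension shifting. -/
theorem nonempty_shift (q : ℕ) (h1 : IsZero ((T.rightDerived q).obj S.X₂))
    (h2 : IsZero ((T.rightDerived (q + 1)).obj S.X₂)) :
    Nonempty ((T.rightDerived q).obj S.X₃ ≅ (T.rightDerived (q + 1)).obj S.X₁) := by
  obtain ⟨-, -, δ, hδ⟩ := RDLES.exists_les T hS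
  obtain ⟨w₁, w₂, e₁, e₂⟩ := hδ q
  have m : Mono (δ q) := e₁.mono_g (h1.eq_of_src _ _)
  have e : Epi (δ q) := e₂.epi_f (h2.eq_of_tgt _ _)
  have := isIso_of_mono_of_epi (δ q)
  exact ⟨asIso (δ q)⟩

/-- The middle and the last term. -/
theorem nonempty_iso_right (q : ℕ) (h1 : IsZero ((T.rightDerived q).obj S.X₁))
    (h2 : IsZero ((T.rightDerived (q + 1)).obj S.X₁)) :
    Nonempty ((T.rightDerived q).obj S.X₂ ≅ (T.rightDerived q).obj S.X₃) := by
  obtain ⟨-, h, δ, hδ⟩ := RDLES.exists_les T hS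
  obtain ⟨w₁, w₂, e₁, e₂⟩ := hδ q
  have w : (T.rightDerived q).map S.f ≫ (T.rightDerived q).map S.g = 0 := by
    rw [h1.eq_of_src ((T.rightDerived q).map S.f) 0, zero_comp]
  have m : Mono ((T.rightDerived q).map S.g) := (h q w).mono_g (h1.eq_of_src _ _)
  have e : Epi ((T.rightDerived q).map S.g) := e₁.epi_f (h2.eq_of_tgt _ _)
  have := isIso_of_mono_of_epi ((T.rightDerived q).map S.g)
  exact ⟨asIso ((T.rightDerived q).map S.g)⟩

theorem isZero_X₃ (q : ℕ) (h1 : IsZero ((T.rightDerived q).obj S.X₂))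
    (h2 : IsZero ((T.rightDerived (q + 1)).obj S.X₁)) : IsZero ((T.rightDerived q).obj S.X₃) := by
  obtain ⟨-, -, δ, hδ⟩ := RDLES.exists_les T hS
  obtain ⟨w₁, w₂, e₁, e₂⟩ := hδ q
  exact e₁.isZero_of_both_zeros (h1.eq_of_src _ _) (h2.eq_of_tgt _ _)

theorem isZero_X₂ (q : ℕ) (h1 : IsZero ((T.rightDerived q).obj S.X₁))
    (h2 : IsZero ((T.rightDerived q).obj S.X₃)) : IsZero ((T.rightDerived q).obj S.X₂) := by
  obtain ⟨-, h, -, -⟩ := RDLES.exists_les T hS
  have w : (T.rightDerived q).map S.f ≫ (T.rightDerived q).map S.g = 0 := by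
    rw [h1.eq_of_src ((T.rightDerived q).map S.f) 0, zero_comp]
  exact (h q w).isZero_of_both_zeros (h1.eq_of_src _ _) (h2.eq_of_tgt _ _)

end LES

variable {A : Type u₁} {B : Type u₂} {C : Type u₃} [Category.{v₁} A] [Category.{v₂} B] [Category.{v₃} C]
  [Abelian A] [Abelian B] [Abelian C] [HasInjectiveResolutions A] [HasInjectiveResolutions B]
  (F : A ⥤ B) [F.Additive] (G : B ⥤ C) [G.Additive]

omit [HasInjectiveResolutions B] in
theorem isZero_of_injective (I : A) [Injective I] (q : ℕ) :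
    IsZero ((F.rightDerived (q + 1)).obj I) :=
  Functor.isZero_rightDerived_obj_injective_succ F q I

omit [HasInjectiveResolutions B] in
/-- The pieces of `0 → F X → F I → F Q → R¹F X → 0`. -/
theorem exists_pieces [PreservesFiniteLimits F] (hF : ∀ I : A, Injective I → Injective (F.obj I))
    (X : A) : ∃ (S : ShortComplex A) (_ : S.ShortExact) (_ : Injective S.X₂) (_ : S.X₁ = X)
      (U V : ShortComplex B) (_ : U.ShortExact) (_ : V.ShortExact) (_ : Injective U.X₂),
      U.X₁ = (F.rightDerived 0).obj X ∧ U.X₃ = V.X₁ ∧ V.X₂ = (F.rightDerived 0).obj S.X₃ ∧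
        V.X₃ = (F.rightDerived 1).obj X := by
  have := RDLES.enoughInjectives (C := A)
  let P : InjectivePresentation X := Classical.arbitrary _
  let S : ShortComplex A := ShortComplex.mk _ _ (cokernel.condition P.f)
  have hI : Injective S.X₂ := P.injective
  have hS : S.ShortExact := { exact := ShortComplex.exact_cokernel P.f }
  obtain ⟨hm, h, δ, hδ⟩ := RDLES.exists_les F hS
  obtain ⟨w₁, w₂, e₁, e₂⟩ := hδ 0
  have hδe : Epi (δ 0) := e₂.epi_f ((isZero_of_injective F S.X₂ 0).eq_of_tgt _ _)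
  have w : (F.rightDerived 0).map S.f ≫ (F.rightDerived 0).map S.g = 0 := by
    rw [← Functor.map_comp, S.zero]
    have : (F.rightDerived 0).Additive := inferInstance
    exact (F.rightDerived 0).map_zero _ _
  have hex := h 0 w
  let V : ShortComplex B := ShortComplex.mk (kernel.ι (δ 0)) (δ 0) (kernel.condition _)
  have hV : V.ShortExact := { exact := ShortComplex.exact_kernel (δ 0) }
  let k : (F.rightDerived 0).obj S.X₂ ⟶ kernel (δ 0) := kernel.lift (δ 0) _ w₁
  have hk : k ≫ kernel.ι (δ 0) = (F.rightDerived 0).map S.g := kernel.lift_ι _ _ _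
  have hke : Epi k := by
    exact (ShortComplex.exact_iff_epi_kernel_lift _).1 e₁
  let U : ShortComplex B := ShortComplex.mk ((F.rightDerived 0).map S.f) k (by
    rw [← cancel_mono (kernel.ι (δ 0)), Category.assoc, hk, w, zero_comp])
  have hUm : Mono U.f := hm
  have hUe : Epi U.g := hke
  let φ : U ⟶ ShortComplex.mk _ _ w :=
    { τ₁ := 𝟙 _
      τ₂ := 𝟙 _
      τ₃ := kernel.ι (δ 0)
      comm₁₂ := (Category.id_comp _).trans (Category.comp_id _).symm
      comm₂₃ := (Category.id_comp _).trans hk.symm }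
  have hφ₁ : Epi φ.τ₁ := inferInstanceAs (Epi (𝟙 _))
  have hφ₂ : IsIso φ.τ₂ := inferInstanceAs (IsIso (𝟙 _))
  have hφ₃ : Mono φ.τ₃ := inferInstanceAs (Mono (kernel.ι (δ 0)))
  have hU : U.ShortExact :=
    { exact := (ShortComplex.exact_iff_of_epi_of_isIso_of_mono φ).2 hex }
  have hUI : Injective U.X₂ := by
    have e : (F.rightDerived 0).obj S.X₂ ≅ F.obj S.X₂ := F.rightDerivedZeroIsoSelf.app _
    have := hF S.X₂ hI
    exact Injective.of_iso e.symm this
  exact ⟨S, hS, hI, rfl, U, V, hU, hV, hUI, rfl, rfl, rfl, rfl⟩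

/-- The case `b = 1`. -/
theorem nonempty_one [PreservesFiniteLimits F] (hF : ∀ I : A, Injective I → Injective (F.obj I))
    (a : ℕ) (X : A) (hb : ∀ j, 1 < j → IsZero ((F.rightDerived j).obj X))
    (ha : ∀ i, a + 1 < i → IsZero ((G.rightDerived i).obj ((F.rightDerived 0).obj X))) :
    Nonempty (((F ⋙ G).rightDerived (a + 1 + 1)).obj X ≅
      (G.rightDerived (a + 1)).obj ((F.rightDerived 1).obj X)) := by
  obtain ⟨S, hS, hI, rfl, U, V, hU, hV, hUI, e1, e2, e3, e4⟩ := exists_pieces F hF X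
  have hFI : Injective (F.obj S.X₂) := hF _ hI
  obtain ⟨s1⟩ := nonempty_shift (F ⋙ G) hS (a + 1) (isZero_of_injective _ _ _)
    (isZero_of_injective _ _ _)
  have hQ : ∀ p, 0 < p → IsZero ((F.rightDerived p).obj S.X₃) := by
    intro p hp
    obtain ⟨p, rfl⟩ : ∃ r, p = r + 1 := ⟨p - 1, by omega⟩
    exact isZero_X₃ F hS (p + 1) (isZero_of_injective _ _ _) (hb _ (by omega))
  have s2 := LerayAcyc.rightDerivedIso F G hF S.X₃ hQ (a + 1)
  have s3 : (G.rightDerived (a + 1)).obj (F.obj S.X₃) ≅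
      (G.rightDerived (a + 1)).obj ((F.rightDerived 0).obj S.X₃) :=
    (G.rightDerived (a + 1)).mapIso (F.rightDerivedZeroIsoSelf.symm.app _)
  have hK : ∀ i, a + 1 ≤ i → IsZero ((G.rightDerived i).obj V.X₁) := by
    intro i hi
    obtain ⟨i, rfl⟩ : ∃ r, i = r + 1 := ⟨i - 1, by omega⟩
    rw [← e2]
    refine isZero_X₃ G hU (i + 1) (isZero_of_injective _ _ _) ?_
    rw [e1]
    exact ha _ (by omega)
  obtain ⟨s4⟩ := nonempty_iso_right G hV (a + 1) (hK _ le_rfl) (hK _ (by omega))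
  rw [e3, e4] at s4
  exact ⟨s1.symm ≪≫ s2 ≪≫ s3 ≪≫ s4⟩

/-- **Leray in the top degree** `a + 1 + b`. -/
theorem nonempty_top [PreservesFiniteLimits F] (hF : ∀ I : A, Injective I → Injective (F.obj I))
    (a b : ℕ) (X : A) (hb : ∀ j, b < j → IsZero ((F.rightDerived j).obj X))
    (ha : ∀ i, a + 1 < i → ∀ j, IsZero ((G.rightDerived i).obj ((F.rightDerived j).obj X))) :
    Nonempty (((F ⋙ G).rightDerived (a + 1 + b)).obj X ≅
      (G.rightDerived (a + 1)).obj ((F.rightDerived b).obj X)) := by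
  induction b generalizing X with
  | zero =>
    exact ⟨LerayAcyc.rightDerivedIso F G hF X hb (a + 1) ≪≫
      (G.rightDerived (a + 1)).mapIso (F.rightDerivedZeroIsoSelf.symm.app _)⟩
  | succ b IH =>
    cases b with
    | zero => exact nonempty_one F G hF a X hb (fun i hi => ha i hi 0)
    | succ b =>
      obtain ⟨S, hS, hI, rfl, U, V, hU, hV, hUI, e1, e2, e3, e4⟩ := exists_pieces F hF X
      have sh : ∀ j, Nonempty ((F.rightDerived (j + 1)).obj S.X₃ ≅
          (F.rightDerived (j + 1 + 1)).obj S.X₁) := fun j =>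
        nonempty_shift F hS (j + 1) (isZero_of_injective _ _ _) (isZero_of_injective _ _ _)
      obtain ⟨s1⟩ := nonempty_shift (F ⋙ G) hS (a + 1 + (b + 1)) (isZero_of_injective _ _ _)
        (isZero_of_injective _ _ _)
      have hK : ∀ i, a + 1 ≤ i → IsZero ((G.rightDerived i).obj V.X₁) := by
        intro i hi
        obtain ⟨i, rfl⟩ : ∃ r, i = r + 1 := ⟨i - 1, by omega⟩
        rw [← e2]
        refine isZero_X₃ G hU (i + 1) (isZero_of_injective _ _ _) ?_
        rw [e1]
        exact ha _ (by omega) _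
      obtain ⟨s2⟩ := IH S.X₃ (fun j hj => by
        obtain ⟨j, rfl⟩ : ∃ r, j = r + 1 := ⟨j - 1, by omega⟩
        obtain ⟨e⟩ := sh j
        exact (hb _ (by omega)).of_iso e) (fun i hi j => by
          cases j with
          | zero =>
            rw [← e3]
            refine isZero_X₂ G hV i (hK i (by omega)) ?_
            rw [e4]
            exact ha _ hi _
          | succ j =>
            obtain ⟨e⟩ := sh j
            exact (ha i hi (j + 1 + 1)).of_iso ((G.rightDerived i).mapIso e))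
      obtain ⟨e⟩ := sh b
      exact ⟨s1.symm ≪≫ s2 ≪≫ (G.rightDerived (a + 1)).mapIso e⟩

end Groth.Agent.Etdl.H142.TopLeray
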