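import Groth.Agent.Etdl.H142.UnivAbs
import Groth.Agent.Etdl.H142.SecFibM5
import Groth.Agent.Etdl.H142.MapP
import Groth.Agent.Etdl.H142.KTate

/-!
# The universal class of the zero section of `(ℙ¹_S)^d`
-/

set_option autoImplicit false
universe u

open CategoryTheory CategoryTheory.Limits AlgebraicGeometry Opposite CategoryTheory.Abelian

namespace Groth.Agent.Etdl.H142.Univ

open Groth.Agent.EtpbcA Groth.Agent.EtpbcA.CdDiesEt Groth.Agent.CurvesA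
open Groth.Agent.Etcore.LocSec Groth.Agent.Etcore.Loc Groth.Agent.Etcore.ZU
open Groth.Agent.Sga4B.DualShape Groth.Agent.Sga4B Groth.Agent.Sga4h.H917.GSec
open Groth.Agent.Sga4B.IterP1
open ClassRes SecFib LiftSupp ResCok Kap KapLoc UnivAbs OffZero MapP

section

variable (S : Scheme.{u}) (d : ℕ) (M : EtCoh.Ab S)
  (k : EtCoh.sect ((EtCoh.Rpush (toBase S d) (2 * d)).obj ((EtCoh.pull (toBase S d)).obj M))
    (EtCoh.top S))

variable {S}

/-- The class on the fibre over `ξ`. -/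
noncomputable def κU (Ω : Type u) [Field Ω] [IsSepClosed Ω] (ξ : Spec (CommRingCat.of Ω) ⟶ S) :
    Ext.{u + 1} (EtCoh.const (P (Spec (CommRingCat.of Ω)) d) ℤ)
      ((EtCoh.pull (toBase (Spec (CommRingCat.of Ω)) d ≫ ξ)).obj M) (2 * d) :=
  κM (toBase S d) (mapP_toBase ξ d) M k

variable (B : Scheme.{u}) (b : B ⟶ S) (W : S.Etale) (l : B ⟶ W.left) (hl : l ≫ W.hom = b)

theorem mem_range_off (z : (off B d : (P B d).Opens)) :
    mapP b d ((off B d).ι z) ∈ Set.range (off S d).ι := by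
  rw [Scheme.Opens.range_ι]
  exact (mapP_mem_off_iff b d _).2 z.2

/-- The class with support in the zero section over `B`. -/
noncomputable def c₀ (y : Ext.{u + 1} (cok (off S d).ι ((Zf (P S d)).obj
      ((EtCoh.bc (toBase S d)).obj W))) ((EtCoh.pull (toBase S d)).obj M) (2 * d)) :
    Ext.{u + 1} (cok (off B d).ι (EtCoh.const (P B d) ℤ))
      ((EtCoh.pull (toBase B d ≫ b)).obj M) (2 * d) :=
  cS (toBase S d) W b l hl (mapP b d) (toBase B d) (mapP_toBase b d) M (2 * d) (off S d).ι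
    (off B d).ι (mem_range_off d B b) y

theorem HPV_c₀ (y : Ext.{u + 1} (cok (off S d).ι ((Zf (P S d)).obj
      ((EtCoh.bc (toBase S d)).obj W))) ((EtCoh.pull (toBase S d)).obj M) (2 * d))
    (hy : RpushSec930.sec (toBase S d) (2 * d) ((EtCoh.pull (toBase S d)).obj M) W
      ((Ext.mk₀ (cokπ (off S d).ι _)).comp y (zero_add (2 * d))) = res _ (toTop W) k)
    (Ω : Type u) [Field Ω] [IsSepClosed Ω] (ξ : Spec (CommRingCat.of Ω) ⟶ B)
    (w₃ : mapP ξ d ≫ toBase B d ≫ b = toBase (Spec (CommRingCat.of Ω)) d ≫ ξ ≫ b) :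
    HPV (mapP ξ d) (toBase B d ≫ b) w₃ M (2 * d)
      ((Ext.mk₀ (cokπ (off B d).ι (EtCoh.const (P B d) ℤ))).comp (c₀ d M B b W l hl y)
        (zero_add (2 * d))) = κU d M k Ω (ξ ≫ b) := by
  have h1 := cokπ_cS (toBase S d) W b l hl (mapP b d) (toBase B d) (mapP_toBase b d) M (2 * d)
    (off S d).ι (off B d).ι (mem_range_off d B b) y
  have hξ : (ξ ≫ l) ≫ W.hom = ξ ≫ b := by rw [Category.assoc, hl]
  have h2 := HPV_cX (toBase S d) W b l hl (mapP b d) (toBase B d) (mapP_toBase b d) M (2 * d)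
    ξ (mapP ξ d) (mapP (ξ ≫ b) d) (mapP_comp ξ b d).symm (mapP_toBase ξ d)
    (mapP_toBase (ξ ≫ b) d) hξ k _ hy w₃
  exact (congrArg (HPV (mapP ξ d) (toBase B d ≫ b) w₃ M (2 * d)) h1).trans h2

end

/-- Local classes with support, over an étale `B ⟶ Y`. -/
theorem exists_local_supp' {X Y O : Scheme.{u}} (f : X ⟶ Y) (N : ℕ) (w : O ⟶ X)
    [IsOpenImmersion w] (F : EtCoh.Ab X)
    (h : IsZero ((EtCoh.Rpush (w ≫ f) N).obj ((EtCoh.pull w).obj F)))
    (k : EtCoh.sect ((EtCoh.Rpush f N).obj F) (EtCoh.top Y)) (s : Y) :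
    ∃ (B : Scheme.{u}) (b : B ⟶ Y) (_ : Etale b) (β : B) (_ : b β = s) (W : Y.Etale)
      (l : B ⟶ W.left) (_ : l ≫ W.hom = b)
      (y : Ext.{u + 1} (cok w ((Zf X).obj ((EtCoh.bc f).obj W))) F N),
        RpushSec930.sec f N F W ((Ext.mk₀ (cokπ w _)).comp y (zero_add N)) = res _ (toTop W) k := by
  obtain ⟨W, v, hv, y, hy⟩ := exists_local_supp f N w F h k s
  exact ⟨W.left, W.hom, W.prop, v, hv, W, 𝟙 _, Category.id_comp _, y, hy⟩

/-- **The universal class.** -/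
theorem exists_univ_of {n : ℕ} (hn0 : 0 < n) (S : Scheme.{u}) (hn : IsUnit (n : Γ(S, ⊤))) (d : ℕ)
    (M : EtCoh.Ab S) (hM : EtCoh.KilledBy n M)
    (e : EtCoh.const S (ZMod n) ≅ (EtCoh.Rpush (toBase S d) (2 * d)).obj
      ((EtCoh.pull (toBase S d)).obj M)) :
    (∀ (Ω : Type u) [Field Ω] [IsSepClosed Ω] (ξ : Spec (CommRingCat.of Ω) ⟶ S),
        (∀ y, ∃ m : ℤ, m • κU d M (app e.hom (EtCoh.top S)
          (Etbc.H207.PtEval.sec S (ZMod n) (ULift.up 1))) Ω ξ = y) ∧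
            ∀ m : ℤ, m • κU d M (app e.hom (EtCoh.top S)
              (Etbc.H207.PtEval.sec S (ZMod n) (ULift.up 1))) Ω ξ = 0 ↔ (n : ℤ) ∣ m) ∧
      ∀ s₀ : S, ∃ (B : Scheme.{u}) (b : B ⟶ S) (_ : Etale b) (β : B), b β = s₀ ∧
        ∃ c₀ : Ext.{u + 1} (cok (off B d).ι (EtCoh.const (P B d) ℤ))
          ((EtCoh.pull (toBase B d ≫ b)).obj M) (2 * d),
          ∀ (Ω : Type u) [Field Ω] [IsSepClosed Ω] (ξ : Spec (CommRingCat.of Ω) ⟶ B)
            (s : Spec (CommRingCat.of Ω) ⟶ S) (_ : ξ ≫ b = s)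
            (w : mapP ξ d ≫ toBase B d ≫ b = toBase (Spec (CommRingCat.of Ω)) d ≫ s),
            HPV (mapP ξ d) (toBase B d ≫ b) w M (2 * d)
              ((Ext.mk₀ (cokπ (off B d).ι (EtCoh.const (P B d) ℤ))).comp c₀
                (zero_add (2 * d))) = κU d M (app e.hom (EtCoh.top S)
                  (Etbc.H207.PtEval.sec S (ZMod n) (ULift.up 1))) Ω s := by
  have hT : EtCoh.IsTorsion ((EtCoh.pull (toBase S d)).obj M) :=
    JFComp.isTorsion_of_killedBy hn0 (ShriekTools.killedBy_pull _ n _ hM)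
  refine ⟨fun Ω _ _ ξ => ?_, fun s₀ => ?_⟩
  · exact basis_κM (toBase S d) M (2 * d) e (mapP_toBase ξ d)
      (SecFibM5.surj (toBase S d) (isPullback_mapP ξ d) hT (2 * d))
      (SecFibM5.inj (toBase S d) (isPullback_mapP ξ d) hT (2 * d))
  · have hv : IsZero ((EtCoh.Rpush ((off S d).ι ≫ toBase S d) (2 * d)).obj
        ((EtCoh.pull (off S d).ι).obj ((EtCoh.pull (toBase S d)).obj M))) :=
      (vanAbove_off hn0 S hn d M hM (2 * d) le_rfl).of_iso
        ((EtCoh.Rpush ((off S d).ι ≫ toBase S d) (2 * d)).mapIso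
          (VanAbove.pullCompIso (off S d).ι (toBase S d) M).symm)
    obtain ⟨B, b, hb, β, hβ, W, l, hl, y, hy⟩ := exists_local_supp' (toBase S d) (2 * d)
      (off S d).ι ((EtCoh.pull (toBase S d)).obj M) hv (app e.hom (EtCoh.top S)
        (Etbc.H207.PtEval.sec S (ZMod n) (ULift.up 1))) s₀
    refine ⟨B, b, hb, β, hβ, c₀ d M B b W l hl y, ?_⟩
    intro Ω _ _ ξ s hs w
    subst hs
    exact HPV_c₀ d M _ B b W l hl y hy Ω ξ w

/-- The universal class with coefficients `M`. -/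
def IsUnivCls (S : Scheme.{u}) (n d : ℕ) (M : EtCoh.Ab S)
    (κ : ∀ (Ω : Type u) [Field Ω] [IsSepClosed Ω] (ξ : Spec (CommRingCat.of Ω) ⟶ S),
      Ext.{u + 1} (EtCoh.const (P (Spec (CommRingCat.of Ω)) d) ℤ)
        ((EtCoh.pull (toBase (Spec (CommRingCat.of Ω)) d ≫ ξ)).obj M) (2 * d)) : Prop :=
  (∀ (Ω : Type u) [Field Ω] [IsSepClosed Ω] (ξ : Spec (CommRingCat.of Ω) ⟶ S),
        (∀ y, ∃ m : ℤ, m • κ Ω ξ = y) ∧ ∀ m : ℤ, m • κ Ω ξ = 0 ↔ (n : ℤ) ∣ m) ∧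
      ∀ s₀ : S, ∃ (B : Scheme.{u}) (b : B ⟶ S) (_ : Etale b) (β : B), b β = s₀ ∧
        ∃ c₀ : Ext.{u + 1} (cok (off B d).ι (EtCoh.const (P B d) ℤ))
          ((EtCoh.pull (toBase B d ≫ b)).obj M) (2 * d),
          ∀ (Ω : Type u) [Field Ω] [IsSepClosed Ω] (ξ : Spec (CommRingCat.of Ω) ⟶ B)
            (s : Spec (CommRingCat.of Ω) ⟶ S) (_ : ξ ≫ b = s)
            (w : mapP ξ d ≫ toBase B d ≫ b = toBase (Spec (CommRingCat.of Ω)) d ≫ s),
            HPV (mapP ξ d) (toBase B d ≫ b) w M (2 * d)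
              ((Ext.mk₀ (cokπ (off B d).ι (EtCoh.const (P B d) ℤ))).comp c₀
                (zero_add (2 * d))) = κ Ω s

theorem isUnivCls_of {n : ℕ} (hn0 : 0 < n) (S : Scheme.{u}) (hn : IsUnit (n : Γ(S, ⊤))) (d : ℕ)
    (M : EtCoh.Ab S) (hM : EtCoh.KilledBy n M)
    (e : EtCoh.const S (ZMod n) ≅ (EtCoh.Rpush (toBase S d) (2 * d)).obj
      ((EtCoh.pull (toBase S d)).obj M)) :
    IsUnivCls S n d M (fun Ω _ _ s => κU d M (app e.hom (EtCoh.top S)
      (Etbc.H207.PtEval.sec S (ZMod n) (ULift.up 1))) Ω s) :=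
  exists_univ_of hn0 S hn d M hM e

/-- **The universal class.** -/
theorem exists_univ {n : ℕ} (hn0 : 0 < n) (S : Scheme.{u}) (hn : IsUnit (n : Γ(S, ⊤))) (d : ℕ) :
    ∃ κ : ∀ (Ω : Type u) [Field Ω] [IsSepClosed Ω] (ξ : Spec (CommRingCat.of Ω) ⟶ S),
      Ext.{u + 1} (EtCoh.const (P (Spec (CommRingCat.of Ω)) d) ℤ)
        ((EtCoh.pull (toBase (Spec (CommRingCat.of Ω)) d ≫ ξ)).obj (EtDual.tate S n d)) (2 * d),
      IsUnivCls S n d (EtDual.tate S n d) κ := by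
  obtain ⟨e⟩ := KTate.nonempty_top' hn0 S hn d
  exact ⟨_, isUnivCls_of hn0 S hn d (EtDual.tate S n d) (Sga5.H848.TateTwist.killedBy_tate _)
    e.symm⟩

end Groth.Agent.Etdl.H142.Univ
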