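import Groth.Agent.Etdl.H142.KapLoc

/-!
# The class attached to a global section: basis, local existence
-/

set_option autoImplicit false
universe u

open CategoryTheory CategoryTheory.Limits AlgebraicGeometry Opposite CategoryTheory.Abelian

namespace Groth.Agent.Etdl.H142.UnivAbs

open Groth.Agent.EtpbcA Groth.Agent.EtpbcA.CdDiesEt Groth.Agent.CurvesA
open Groth.Agent.Etcore.LocSec Groth.Agent.Etcore.Loc Groth.Agent.Etcore.ZU
open Groth.Agent.Sga4B.DualShape Groth.Agent.Sga4B Groth.Agent.Sga4h.H917.GSec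
open ClassRes SecFib LiftSupp ResCok Kap KapLoc

section Abs

variable {X Y : Scheme.{u}} (f : X ⟶ Y) (M : EtCoh.Ab Y) (N : ℕ)

section Basis

variable {X₀ : Scheme.{u}} {Ω : Type u} [Field Ω] [IsSepClosed Ω]
  {ξ : Spec (CommRingCat.of Ω) ⟶ Y} {a : X₀ ⟶ Spec (CommRingCat.of Ω)} {i : X₀ ⟶ X}

/-- Bases are transported by isomorphisms of the coefficients. -/
theorem basis_comp {Z : Scheme.{u}} {A F G : EtCoh.Ab Z} (φ : F ⟶ G) [IsIso φ] {n : ℕ}
    (c : Ext.{u + 1} A F N)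
    (h : (∀ y, ∃ m : ℤ, m • c = y) ∧ ∀ m : ℤ, m • c = 0 ↔ (n : ℤ) ∣ m) :
    (∀ y, ∃ m : ℤ, m • c.comp (Ext.mk₀ φ) (add_zero N) = y) ∧
      ∀ m : ℤ, m • c.comp (Ext.mk₀ φ) (add_zero N) = 0 ↔ (n : ℤ) ∣ m := by
  have h0 : ∀ m : ℤ, m • c.comp (Ext.mk₀ φ) (add_zero N) =
      (m • c).comp (Ext.mk₀ φ) (add_zero N) :=
    fun m => (map_zsmul ((Ext.mk₀ φ).postcomp A (add_zero N)) m c).symm
  constructor
  · intro y
    obtain ⟨m, hm⟩ := h.1 (y.comp (Ext.mk₀ (inv φ)) (add_zero N))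
    refine ⟨m, ?_⟩
    rw [h0, hm, Ext.comp_assoc_of_third_deg_zero, Ext.mk₀_comp_mk₀, IsIso.inv_hom_id,
      Ext.comp_mk₀_id]
  · intro m
    rw [← h.2 m, h0]
    constructor
    · intro h1
      have h3 := congrArg (fun z => z.comp (Ext.mk₀ (inv φ)) (add_zero N)) h1
      simpa only [Ext.comp_assoc_of_third_deg_zero, Ext.mk₀_comp_mk₀, IsIso.hom_inv_id,
        Ext.comp_mk₀_id, Ext.zero_comp] using h3
    · intro h1
      rw [h1, Ext.zero_comp]

theorem basis_κM {n : ℕ}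
    (e : EtCoh.const Y (ZMod n) ≅ (EtCoh.Rpush f N).obj ((EtCoh.pull f).obj M))
    (w : i ≫ f = a ≫ ξ) (hS : Surj f w ((EtCoh.pull f).obj M) N)
    (hI : Inj f w ((EtCoh.pull f).obj M) N) :
    (∀ y, ∃ m : ℤ, m • κM f w M (app e.hom (EtCoh.top Y)
      (Etbc.H207.PtEval.sec Y (ZMod n) (ULift.up 1))) = y) ∧
    ∀ m : ℤ, m • κM f w M (app e.hom (EtCoh.top Y)
      (Etbc.H207.PtEval.sec Y (ZMod n) (ULift.up 1))) = 0 ↔ (n : ℤ) ∣ m := by
  have h := basis f w e hS hI (κ₀ f w (app e.hom (EtCoh.top Y)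
    (Etbc.H207.PtEval.sec Y (ZMod n) (ULift.up 1)))) (rf_eq_κ₀ f w _)
  exact basis_comp N (thh i f w M) _ h

end Basis

/-- The sections over a point. -/
theorem exists_local_pt {F : EtCoh.Ab X} (k : EtCoh.sect ((EtCoh.Rpush f N).obj F) (EtCoh.top Y))
    (s : Y) : ∃ (V : Y.Etale) (v : V.left) (_ : V.hom v = s)
      (x : Ext.{u + 1} ((Zf X).obj ((EtCoh.bc f).obj V)) F N),
        RpushSec930.sec f N F V x = res _ (toTop V) k := by
  obtain ⟨Sv, hS, h⟩ := RpushSec930.exists_sieve_sec_eq f N F k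
  obtain ⟨W, g, hg, v, hv⟩ := (Germ.mem_iff Sv).1 hS s
  obtain ⟨x, hx⟩ := h W g hg
  refine ⟨W, v, ?_, x, hx.trans ?_⟩
  · rw [← hv]
    have h1 : g.left ≫ (EtCoh.top Y).hom = W.hom := MorphismProperty.Over.w g
    rw [← h1]
    rfl
  · exact congrArg (fun t => res ((EtCoh.Rpush f N).obj F) t k) ((EtCore.topIsTerminal Y).hom_ext _ _)

/-- **Local classes with support with a given section.** -/
theorem exists_local_supp {O : Scheme.{u}} (w : O ⟶ X) [IsOpenImmersion w] (F : EtCoh.Ab X)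
    (h : IsZero ((EtCoh.Rpush (w ≫ f) N).obj ((EtCoh.pull w).obj F)))
    (k : EtCoh.sect ((EtCoh.Rpush f N).obj F) (EtCoh.top Y)) (s : Y) :
    ∃ (W : Y.Etale) (v : W.left) (_ : W.hom v = s)
      (y : Ext.{u + 1} (cok w ((Zf X).obj ((EtCoh.bc f).obj W))) F N),
        RpushSec930.sec f N F W ((Ext.mk₀ (cokπ w _)).comp y (zero_add N)) = res _ (toTop W) k := by
  obtain ⟨V, v, hv, x, hx⟩ := exists_local_pt f N k s
  obtain ⟨W, g, v', hv', y, hy⟩ := LiftSupp.exists_lift w f F N h V v x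
  refine ⟨W, v', ?_, y, ?_⟩
  · rw [← hv, ← hv']
    have h1 : g.left ≫ V.hom = W.hom := MorphismProperty.Over.w g
    rw [← h1]
    rfl
  · rw [hy]
    refine (RpushSec930.sec_res f N F g x).symm.trans ?_
    rw [hx]
    change res _ g (res _ (toTop V) k) = res _ (toTop W) k
    rw [res_res]
    exact congrArg (fun t => res ((EtCoh.Rpush f N).obj F) t k)
      ((EtCore.topIsTerminal Y).hom_ext _ _)

end Abs

end Groth.Agent.Etdl.H142.UnivAbs
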