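import Groth.Agent.Etdl.H142.MVRpush
import Groth.Agent.EtpbcA.CdDiesEt
import Groth.Agent.EtpbcA.ClosedPushExact
import Groth.Agent.Sga4B.IterP1
import Groth.Agent.Sga4B.P1Rel
import Groth.Agent.S0001
import Groth.Agent.S0126
import Groth.Agent.S3117
import Groth.Agent.Sga4B.ShriekTools
import Groth.Agent.Sga4B.JFComp

/-!
# Vanishing of `R^q g_* g^* F` in large degrees

`VanAbove n m g`: `R^q g_* g^* F = 0` for all `F` killed by `n` and all `q ≥ m`.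
-/

set_option autoImplicit false
set_option linter.dupNamespace false
universe u

open CategoryTheory CategoryTheory.Limits AlgebraicGeometry Opposite
open Groth.Agent.EtpbcB

namespace Groth.Agent.Etdl.H142.VanAbove

open Groth.Agent.Sga4B

/-- `R^q g_* g^* F = 0` for all `F` killed by `n` and all `q ≥ m`. -/
def VanAbove (n m : ℕ) {Y S : Scheme.{u}} (g : Y ⟶ S) : Prop :=
  ∀ F : EtCoh.Ab S, EtCoh.KilledBy n F → ∀ q : ℕ, m ≤ q →
    IsZero ((EtCoh.Rpush g q).obj ((EtCoh.pull g).obj F))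

variable {n m : ℕ} {Y S : Scheme.{u}}

theorem VanAbove.mono {m' : ℕ} {g : Y ⟶ S} (h : VanAbove n m g) (hm : m ≤ m') : VanAbove n m' g :=
  fun F hF q hq => h F hF q (hm.trans hq)

/-- The canonical isomorphism `(f ≫ g)^* F ≅ f^* g^* F`. -/
noncomputable def pullCompIso {X : Scheme.{u}} (f : X ⟶ Y) (g : Y ⟶ S) (F : EtCoh.Ab S) :
    (EtCoh.pull (f ≫ g)).obj F ≅ (EtCoh.pull f).obj ((EtCoh.pull g).obj F) :=
  (EtCore.pullComp f g).app F

theorem isUnit_of_hom (g : Y ⟶ S) (hn : IsUnit (n : Γ(S, ⊤))) : IsUnit (n : Γ(Y, ⊤)) := by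
  have h := hn.map g.appTop.hom
  rwa [map_natCast] at h

/-- Composition with an affine line. -/
theorem VanAbove.line {g : Y ⟶ S} (h : VanAbove n m g) (hn : IsUnit (n : Γ(S, ⊤))) :
    VanAbove n m ((𝔸(P1Geom.I.{u}; Y) ↘ Y) ≫ g) := by
  intro F hF q hq
  have hG := ShriekTools.killedBy_pull g n F hF
  obtain ⟨h1, h2⟩ := S3117.result Y 1 n (isUnit_of_hom g hn) _ hG
  let a : 𝔸(P1Geom.I.{u}; Y) ⟶ Y := 𝔸(P1Geom.I.{u}; Y) ↘ Y
  have e := pullCompIso a g F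
  refine IsZero.of_iso ?_ ((EtCoh.Rpush (a ≫ g) q).mapIso e)
  refine EtpbcA.CdDiesEt.isZero_Rpush_comp a g _ q ?_ ?_
  · have h1' : IsIso ((EtCoh.pullPushAdj a).unit.app ((EtCoh.pull g).obj F)) := h1
    exact (h F hF q hq).of_iso
      ((EtCoh.Rpush g q).mapIso (asIso ((EtCoh.pullPushAdj a).unit.app ((EtCoh.pull g).obj F))).symm)
  · intro p r _
    exact (EtCoh.Rpush g p).map_isZero (h2 (r + 1) r.succ_pos)

/-- The dimension of the fibres of `ℙ¹_S ⟶ S`. -/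
theorem dim_fiber_le (S : Scheme.{u}) (s : S) :
    topologicalKrullDim ((CohB1.ProjSpaceOver.toBase 1 S).fiber s) ≤ (1 : ℕ) := by
  have h := (P1Rel.isSmoothProperCurve_fibre (S.fromSpecResidueField s)).2.2.2
  exact h.le

/-- `R^q p_* F = 0` for `q > 2` and `p : ℙ¹_S ⟶ S`. -/
theorem isZero_Rpush_P1 (S : Scheme.{u}) (F : EtCoh.Ab (CohB1.ProjSpaceOver 1 S))
    (hF : EtCoh.IsTorsion F) (q : ℕ) (hq : 2 < q) :
    IsZero ((EtCoh.Rpush (CohB1.ProjSpaceOver.toBase 1 S) q).obj F) :=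
  S0126.result _ 1 (dim_fiber_le S) F hF q (by omega)

/-- Composition with a projective line. -/
theorem VanAbove.P1 {g : Y ⟶ S} (h : VanAbove n m g) (hn0 : 0 < n) :
    VanAbove n (m + 2) (CohB1.ProjSpaceOver.toBase 1 Y ≫ g) := by
  intro F hF q hq
  let p : CohB1.ProjSpaceOver 1 Y ⟶ Y := CohB1.ProjSpaceOver.toBase 1 Y
  let p₀ : CohB1.ProjSpaceOver 1 S ⟶ S := CohB1.ProjSpaceOver.toBase 1 S
  let t : CohB1.ProjSpaceOver 1 Y ⟶ CohB1.ProjSpaceOver 1 S := P1.toP1 g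
  have sq : IsPullback t p p₀ g := P1Geom.isPullback_toP1 g
  have hF₀ : EtCoh.KilledBy n ((EtCoh.pull p₀).obj F) := ShriekTools.killedBy_pull p₀ n F hF
  have hT : EtCoh.IsTorsion ((EtCoh.pull p₀).obj F) := JFComp.isTorsion_of_killedBy hn0 hF₀
  have e : (EtCoh.pull (p ≫ g)).obj F ≅ (EtCoh.pull t).obj ((EtCoh.pull p₀).obj F) :=
    (EtCore.pullCongr sq.w.symm).app F ≪≫ pullCompIso t p₀ F
  -- `R^j p_*` is the inverse image of `R^j p₀_*`
  have key : ∀ j : ℕ, Nonempty ((EtCoh.pull g).obj ((EtCoh.Rpush p₀ j).obj ((EtCoh.pull p₀).obj F)) ≅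
      (EtCoh.Rpush p j).obj ((EtCoh.pull t).obj ((EtCoh.pull p₀).obj F))) := fun j =>
    (S0001.result _ _ _ _ p₀ g p t sq _ hT).1 j
  have hk : ∀ j : ℕ, EtCoh.KilledBy n ((EtCoh.Rpush p₀ j).obj ((EtCoh.pull p₀).obj F)) := fun j =>
    ShriekTools.killedBy_map (EtCoh.Rpush p₀ j) n _ hF₀
  have hz : ∀ i j : ℕ, i + j = q → IsZero ((EtCoh.Rpush g i).obj
      ((EtCoh.Rpush p j).obj ((EtCoh.pull t).obj ((EtCoh.pull p₀).obj F)))) := by
    intro i j hij
    obtain ⟨ej⟩ := key j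
    by_cases hi : m ≤ i
    · exact (h _ (hk j) i hi).of_iso ((EtCoh.Rpush g i).mapIso ej.symm)
    · have h0 : IsZero ((EtCoh.Rpush p₀ j).obj ((EtCoh.pull p₀).obj F)) :=
        isZero_Rpush_P1 S _ hT j (by omega)
      exact (EtCoh.Rpush g i).map_isZero (((EtCoh.pull g).map_isZero h0).of_iso ej.symm)
  refine IsZero.of_iso ?_ ((EtCoh.Rpush (p ≫ g) q).mapIso e)
  refine EtpbcA.CdDiesEt.isZero_Rpush_comp p g _ q ?_ ?_
  · exact (hz q 0 (add_zero q)).of_iso ((EtCoh.Rpush g q).mapIso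
      ((EtCoh.push p).rightDerivedZeroIsoSelf.symm.app _))
  · intro i j hij
    exact hz i (j + 1) hij

/-- The unit of `e^* ⊣ e_*` is an isomorphism for an isomorphism `e`. -/
theorem isIso_unit_of_isIso {Y' : Scheme.{u}} (e : Y' ⟶ Y) [IsIso e] (G : EtCoh.Ab Y) :
    IsIso ((EtCoh.pullPushAdj e).unit.app G) := by
  have h1 : (EtCoh.push e).IsEquivalence :=
    (EtpbcB.IsoTransport.pushEquiv (asIso e)).isEquivalence_functor
  have h2 : (EtCoh.pull e).IsEquivalence := (EtCoh.pullPushAdj e).isEquivalence_left_of_isEquivalence_right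
  infer_instance

/-- Invariance under isomorphisms of the source. -/
theorem VanAbove.of_isIso {Y' : Scheme.{u}} (e : Y' ⟶ Y) [IsIso e] {g : Y ⟶ S}
    (h : VanAbove n m g) : VanAbove n m (e ≫ g) := by
  intro F hF q hq
  refine IsZero.of_iso ?_ ((EtCoh.Rpush (e ≫ g) q).mapIso (pullCompIso e g F))
  refine EtpbcA.CdDiesEt.isZero_Rpush_comp e g _ q ?_ ?_
  · have := isIso_unit_of_isIso e ((EtCoh.pull g).obj F)
    exact (h F hF q hq).of_iso ((EtCoh.Rpush g q).mapIso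
      (asIso ((EtCoh.pullPushAdj e).unit.app ((EtCoh.pull g).obj F))).symm)
  · intro i j _
    exact (EtCoh.Rpush g i).map_isZero (EtpbcA.ClosedPushExact.isZero_Rpush e _ (j + 1)
      (Nat.succ_le_succ (Nat.zero_le j)))

/-- Two open immersions with the same range. -/
theorem VanAbove.of_range_eq {A B X : Scheme.{u}} (a : A ⟶ X) (b : B ⟶ X) [IsOpenImmersion a]
    [IsOpenImmersion b] (hr : Set.range a = Set.range b) (f : X ⟶ S)
    (h : VanAbove n m (b ≫ f)) : VanAbove n m (a ≫ f) := by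
  have h1 := VanAbove.of_isIso (IsOpenImmersion.isoOfRangeEq a b hr).hom h
  rwa [IsOpenImmersion.isoOfRangeEq_hom_fac_assoc] at h1

/-- Mayer–Vietoris. -/
theorem VanAbove.mv {X : Scheme.{u}} (f : X ⟶ S) [QuasiCompact f] [QuasiSeparated f]
    (U V : X.Opens) (hUV : U ⊔ V = ⊤) [QuasiCompact (U.ι ≫ f)] [QuasiCompact (V.ι ≫ f)]
    [QuasiCompact ((U ⊓ V).ι ≫ f)] (hU : VanAbove n (m + 1) (U.ι ≫ f))
    (hV : VanAbove n (m + 1) (V.ι ≫ f)) (hI : VanAbove n m ((U ⊓ V).ι ≫ f)) :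
    VanAbove n (m + 1) f := by
  intro F hF q hq
  obtain ⟨q, rfl⟩ : ∃ r, q = r + 1 := ⟨q - 1, by omega⟩
  refine MVRpush.isZero_Rpush_of_mv f U V hUV _ q ?_ ?_ ?_
  · exact (hU F hF (q + 1) hq).of_iso ((EtCoh.Rpush (U.ι ≫ f) (q + 1)).mapIso
      (pullCompIso U.ι f F).symm)
  · exact (hV F hF (q + 1) hq).of_iso ((EtCoh.Rpush (V.ι ≫ f) (q + 1)).mapIso
      (pullCompIso V.ι f F).symm)
  · exact (hI F hF q (by omega)).of_iso ((EtCoh.Rpush ((U ⊓ V).ι ≫ f) q).mapIso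
      (pullCompIso (U ⊓ V).ι f F).symm)

/-- The empty scheme. -/
theorem VanAbove.of_isEmpty [IsEmpty Y] (g : Y ⟶ S) : VanAbove n 0 g := fun F _ q _ =>
  (EtCoh.Rpush g q).map_isZero (ShriekTools.isZero_of_isEmpty ‹_› _)

/-- The identity. -/
theorem VanAbove.id (S : Scheme.{u}) : VanAbove n 1 (𝟙 S) := fun _ _ q hq =>
  EtpbcA.ClosedPushExact.isZero_Rpush (𝟙 S) _ q hq

end Groth.Agent.Etdl.H142.VanAbove
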