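import Groth.Agent.Etdl.H142.ClassRes
import Groth.Agent.Sga4h.H917.GSec
import Groth.Agent.EtpbcB.HRel

/-!
# `EtCore.HpullVia` and `Etcore.Loc.HPV`; change of the base
-/

set_option autoImplicit false
universe u

open CategoryTheory CategoryTheory.Limits AlgebraicGeometry Opposite CategoryTheory.Abelian

namespace Groth.Agent.Etdl.H142.Via

open Groth.Agent.Etcore.LocSec Groth.Agent.Etcore.Loc Groth.Agent.Etcore.PullCoh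
open Groth.Agent.Sga4h.H917.GSec

variable {X Y Z T : Scheme.{u}}

theorem HpullVia_eq_HPV (f : X ⟶ Y) (t : Y ⟶ Z) (f₀ : X ⟶ Z) (w : f ≫ t = f₀) (G : EtCoh.Ab Z)
    (p : ℕ) (ξ : EtCoh.H Y ((EtCoh.pull t).obj G) p) :
    EtCore.HpullVia f t f₀ w G p ξ = HPV f t w G p ξ := by
  rw [EtpbcB.HRel.HpullVia_eq, HPV_apply, Sga4B.ExtCmp.cmp_apply, pullConst_inv,
    ← Sga4h.H917.GSec.thh_eq_th]
  rfl

theorem thh_assoc (f : X ⟶ Y) (t : Y ⟶ Z) (s : Z ⟶ T)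
    {ft : X ⟶ Z} {ts : Y ⟶ T} {fts : X ⟶ T} (w₁ : f ≫ t = ft) (w₂ : t ≫ s = ts)
    (w₃ : f ≫ ts = fts) (w₄ : ft ≫ s = fts) (G : EtCoh.Ab T) :
    (EtCoh.pull f).map (thh t s w₂ G) ≫ thh f ts w₃ G =
      thh f t w₁ ((EtCoh.pull s).obj G) ≫ thh ft s w₄ G := by
  rw [thh_eq_th, thh_eq_th, thh_eq_th, thh_eq_th]
  exact th_assoc f t s ft ts fts w₁ w₂ w₃ w₄ G

theorem HPV_eq (f : X ⟶ Y) (t : Y ⟶ Z) {f₀ : X ⟶ Z} (w : f ≫ t = f₀) (G : EtCoh.Ab Z)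
    (p : ℕ) (x : Ext.{u + 1} (EtCoh.const Y ℤ) ((EtCoh.pull t).obj G) p) :
    HPV f t w G p x = (HP f ((EtCoh.pull t).obj G) p x).comp (Ext.mk₀ (thh f t w G))
      (add_zero p) := rfl

theorem HP_eq (f : X ⟶ Y) (G : EtCoh.Ab Y) (p : ℕ) (x : Ext.{u + 1} (EtCoh.const Y ℤ) G p) :
    HP f G p x = (Ext.mk₀ (EtCore.pullConst f ℤ).inv).comp (x.mapExactFunctor (EtCoh.pull f))
      (zero_add p) := by
  rw [HP, extPull_apply, ← pullConst_inv]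

theorem HP_comp_mk₀ (f : X ⟶ Y) {G G' : EtCoh.Ab Y} (p : ℕ)
    (x : Ext.{u + 1} (EtCoh.const Y ℤ) G p) (φ : G ⟶ G') :
    HP f G' p (x.comp (Ext.mk₀ φ) (add_zero p)) =
      (HP f G p x).comp (Ext.mk₀ ((EtCoh.pull f).map φ)) (add_zero p) := by
  rw [HP_eq, HP_eq, Ext.mapExactFunctor_comp, Ext.mapExactFunctor_mk₀,
    Ext.comp_assoc_of_third_deg_zero]

/-- Change of the base. -/
theorem HPV_conv (f : X ⟶ Y) (t : Y ⟶ Z) (s : Z ⟶ T)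
    {ft : X ⟶ Z} {ts : Y ⟶ T} {fts : X ⟶ T} (w₁ : f ≫ t = ft) (w₂ : t ≫ s = ts)
    (w₃ : f ≫ ts = fts) (w₄ : ft ≫ s = fts) (G : EtCoh.Ab T) (p : ℕ)
    (x : Ext.{u + 1} (EtCoh.const Y ℤ) ((EtCoh.pull t).obj ((EtCoh.pull s).obj G)) p) :
    (HPV f t w₁ ((EtCoh.pull s).obj G) p x).comp (Ext.mk₀ (thh ft s w₄ G))
      (add_zero p) = HPV f ts w₃ G p (x.comp (Ext.mk₀ (thh t s w₂ G)) (add_zero p)) := by
  rw [HPV_eq, HPV_eq, HP_comp_mk₀, Ext.comp_assoc_of_third_deg_zero, Ext.mk₀_comp_mk₀,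
    Ext.comp_assoc_of_third_deg_zero, Ext.mk₀_comp_mk₀, thh_assoc f t s w₁ w₂ w₃ w₄ G]

end Groth.Agent.Etdl.H142.Via
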